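import Mathlib
import Cfsg.Agent.ThreeClassSizes.Core
import Cfsg.Agent.TwoRegularSizes.Main
import Cfsg.Agent.GroupBasics.Conjugates

/-!
Groups with three nontrivial class sizes `a`, `b`, `c` where `a` and `c` are coprime and minimal:
elementary facts.
-/

set_option autoImplicit false
set_option linter.unusedSectionVars false

namespace CfsgLib.ConjRankThree

open Subgroup CfsgLib.TwoRegularSizes
open scoped Pointwise

variable {G : Type*} [Group G]

/-- The centraliser of an element. -/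
abbrev cen (x : G) : Subgroup G := centralizer ({x} : Set G)

theorem self_mem_cen (x : G) : x ∈ cen x := mem_cent.2 (Commute.refl x)

theorem cen_mul_eq [Finite G] {x y : G} (hc : Commute x y) (hco : (orderOf x).Coprime (orderOf y)) :
    cen (x * y) = cen x ⊓ cen y := by
  ext k
  rw [mem_inf, mem_cent, mem_cent, mem_cent]
  refine ⟨fun h => ?_, fun h => h.1.mul_right h.2⟩
  have h1 : Commute k (x ^ orderOf y) := by
    have := h.pow_right (orderOf y)
    rwa [hc.mul_pow, pow_orderOf_eq_one, mul_one] at this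
  obtain ⟨n, hn⟩ := exists_pow_eq_self_of_coprime hco.symm
  have h2 : Commute k x := hn ▸ h1.pow_right n
  exact ⟨h2, by simpa using h2.inv_right.mul_right h⟩

theorem eq_of_le_of_index_eq [Finite G] {H K : Subgroup G} (hle : H ≤ K) (hi : H.index = K.index) :
    H = K := by
  refine eq_of_le_of_card_ge hle (le_of_eq ?_)
  have h1 := H.card_mul_index
  rw [hi] at h1
  exact Nat.eq_of_mul_eq_mul_right (Nat.pos_of_ne_zero index_ne_zero_of_finite)
    (K.card_mul_index.trans h1.symm)

theorem index_cen_conj [Finite G] (g x : G) : (cen (g * x * g⁻¹)).index = (cen x).index := by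
  rw [cen, ThreeClassSizes.conj_cent]
  exact index_map_equiv _ (MulAut.conj g)

theorem exists_order_prime [Finite G] {x : G} {r : ℕ} (hr : r.Prime) (hd : r ∣ orderOf x) :
    ∃ y ∈ zpowers x, orderOf y = r := by
  refine ⟨x ^ (orderOf x / r), pow_mem (mem_zpowers x) _, ?_⟩
  rw [orderOf_pow_of_dvd (Nat.div_ne_zero_iff_of_dvd hd |>.2 ⟨(orderOf_pos x).ne', hr.ne_zero⟩)
    (Nat.div_dvd_of_dvd hd), Nat.div_div_self hd (orderOf_pos x).ne']

theorem ne_one_of_orderOf {x : G} {r : ℕ} (hr : r.Prime) (h : orderOf x = r) : x ≠ 1 :=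
  fun e => hr.ne_one (h ▸ e ▸ orderOf_one)

theorem PE_of_orderOf {x : G} {r : ℕ} (h : orderOf x = r) : PE r x :=
  ⟨1, by rw [pow_one, ← h, pow_orderOf_eq_one]⟩

theorem coprime_of_ne {x y : G} {r s : ℕ} (hr : r.Prime) (hs : s.Prime) (hne : r ≠ s)
    (hx : orderOf x = r) (hy : orderOf y = s) : (orderOf x).Coprime (orderOf y) := by
  rw [hx, hy]
  exact (Nat.coprime_primes hr hs).2 hne

/-- An element of prime order in the centre of a given Sylow subgroup. -/
theorem exists_central_mem [Finite G] {p : ℕ} [hp : Fact p.Prime] (P : Sylow p G)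
    (hd : p ∣ Nat.card G) :
    ∃ z ∈ (P : Subgroup G), orderOf z = p ∧ (P : Subgroup G) ≤ cen z := by
  have : Nontrivial (P : Subgroup G) := (nontrivial_iff_ne_bot _).2 (P.ne_bot_of_dvd_card hd)
  have := P.isPGroup'.center_nontrivial
  obtain ⟨⟨u, huc⟩, hu⟩ := exists_ne (1 : center (P : Subgroup G))
  have hu1 : (u : G) ≠ 1 := fun e => hu (Subtype.ext (Subtype.ext e))
  obtain ⟨k, hk⟩ := P.isPGroup' u
  have hd' : p ∣ orderOf (u : G) := by
    have h1 : orderOf (u : G) ∣ p ^ k := orderOf_dvd_of_pow_eq_one (congrArg Subtype.val hk)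
    obtain ⟨j, -, hj⟩ := (Nat.dvd_prime_pow hp.out).1 h1
    rcases Nat.eq_zero_or_pos j with rfl | hj0
    · exact absurd (orderOf_eq_one_iff.1 hj) hu1
    · rw [hj]; exact dvd_pow_self p hj0.ne'
  obtain ⟨z, hz, hzo⟩ := exists_order_prime hp.out hd'
  exact ⟨z, zpowers_le.2 u.2 hz, hzo, fun k hk => ThreeClassSizes.cent_le_of_mem_zpowers hz
    (mem_cent.2 (congrArg Subtype.val (mem_center_iff.1 huc ⟨k, hk⟩)))⟩

theorem exists_central_sylow [Finite G] {p : ℕ} (hp : p.Prime) (hd : p ∣ Nat.card G) :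
    ∃ z : G, orderOf z = p ∧ ¬ p ∣ (cen z).index := by
  have := Fact.mk hp
  obtain ⟨P⟩ : Nonempty (Sylow p G) := inferInstance
  obtain ⟨z, -, hz, hle⟩ := exists_central_mem P hd
  exact ⟨z, hz, fun hdd => P.not_dvd_index (hdd.trans (index_dvd_of_le hle))⟩

variable {a b c : ℕ}

/-- Every class size other than `1` is one of `a`, `b`, `c`; the sizes `a` and `c` are coprime and
`b` divides neither. -/
structure Sizes (G : Type*) [Group G] (a b c : ℕ) : Prop where
  center_eq : center G = ⊥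
  dich : ∀ x : G, x ≠ 1 → (cen x).index = a ∨ (cen x).index = b ∨ (cen x).index = c
  one_lt_a : 1 < a
  one_lt_c : 1 < c
  cop : a.Coprime c
  not_b_a : ¬ b ∣ a
  not_b_c : ¬ b ∣ c
  exA : ∃ x : G, (cen x).index = a
  exC : ∃ x : G, (cen x).index = c

theorem Sizes.symm (h : Sizes G a b c) : Sizes G c b a :=
  ⟨h.center_eq, fun x hx => by have := h.dich x hx; tauto, h.one_lt_c, h.one_lt_a, h.cop.symm,
    h.not_b_c, h.not_b_a, h.exC, h.exA⟩

variable [Finite G] (h : Sizes G a b c)

include h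

theorem Sizes.ne_one {x : G} (hx : 1 < (cen x).index) : x ≠ 1 := by
  rintro rfl
  rw [cen, show centralizer ({1} : Set G) = ⊤ from eq_top_iff.2 fun g _ =>
    mem_cent.2 (Commute.one_right g), index_top] at hx
  exact lt_irrefl _ hx

theorem Sizes.not_a_c : ¬ a ∣ c := fun hd =>
  h.one_lt_a.ne' (Nat.eq_one_of_dvd_coprimes h.cop dvd_rfl hd)

theorem Sizes.b_ne : b ≠ a ∧ b ≠ c :=
  ⟨fun e => h.not_b_a e.dvd, fun e => h.not_b_c e.dvd⟩

/-- An `a`-centraliser lies in no other centraliser of a non-identity element. -/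
theorem Sizes.eq_of_le {x y : G} (hx : (cen x).index = a) (hle : cen x ≤ cen y) (hy : y ≠ 1) :
    cen y = cen x := by
  have hd : (cen y).index ∣ a := hx ▸ index_dvd_of_le hle
  rcases h.dich y hy with e | e | e
  · exact (eq_of_le_of_index_eq hle (hx.trans e.symm)).symm
  · exact absurd (e ▸ hd) h.not_b_a
  · exact absurd (e ▸ hd) h.symm.not_a_c

/-- An `a`-element has powers of prime order with the same centraliser. -/
theorem Sizes.exists_prime_power {x : G} (hx : (cen x).index = a) {r : ℕ} (hr : r.Prime)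
    (hd : r ∣ orderOf x) : ∃ y ∈ zpowers x, orderOf y = r ∧ cen y = cen x := by
  obtain ⟨y, hy, hyo⟩ := exists_order_prime hr hd
  exact ⟨y, hy, hyo, h.eq_of_le hx (ThreeClassSizes.cent_le_of_mem_zpowers hy)
    (ne_one_of_orderOf hr hyo)⟩

theorem Sizes.exists_prime_rep {x : G} (hx : (cen x).index = a) :
    ∃ (r : ℕ) (y : G), r.Prime ∧ orderOf y = r ∧ y ∈ zpowers x ∧ cen y = cen x := by
  have hx1 : x ≠ 1 := h.ne_one (by rw [hx]; exact h.one_lt_a)
  obtain ⟨r, hr, hd⟩ := Nat.exists_prime_and_dvd fun e => hx1 (orderOf_eq_one_iff.1 e)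
  obtain ⟨y, hy, hyo, hye⟩ := h.exists_prime_power hx hr hd
  exact ⟨r, y, hr, hyo, hy, hye⟩

theorem Sizes.factor {x w : G} (hx : (cen x).index = a) (hw : (cen w).index = c) :
    Factorizations.Factors (cen x) (cen w) :=
  ThreeClassSizes.factors_of_coprime_index (hx.symm ▸ hw.symm ▸ h.cop)

theorem Sizes.index_inf {x w : G} (hx : (cen x).index = a) (hw : (cen w).index = c) :
    (cen x ⊓ cen w).index = a * c := by
  refine le_antisymm (hx ▸ hw ▸ index_inf_le) (Nat.le_of_dvd
    (Nat.pos_of_ne_zero index_ne_zero_of_finite) (h.cop.mul_dvd_of_dvd_of_dvd ?_ ?_))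
  · exact hx ▸ index_dvd_of_le inf_le_left
  · exact hw ▸ index_dvd_of_le inf_le_right

/-- Commuting spreads to all conjugates. -/
theorem Sizes.commute_conj {x w : G} (hx : (cen x).index = a) (hw : (cen w).index = c)
    (hcm : Commute x w) (g : G) : Commute x (g * w * g⁻¹) := by
  obtain ⟨u, hu, k, hk, rfl⟩ := h.factor hx hw g
  have h1 : u * k * w * (u * k)⁻¹ = u * w * u⁻¹ := by
    calc u * k * w * (u * k)⁻¹ = u * (k * w) * k⁻¹ * u⁻¹ := by group
      _ = u * (w * k) * k⁻¹ * u⁻¹ := by rw [(mem_cent.1 hk).eq]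
      _ = u * w * u⁻¹ := by group
  rw [h1]
  have := hcm.map (MulAut.conj u).toMonoidHom
  simpa [mul_assoc, show u * x * u⁻¹ = x by rw [(mem_cent.1 hu).eq]; group] using this

/-- A `c`-element of `s`-power order, `s` prime to `a`, commutes with every `a`-element. -/
theorem Sizes.commute_of_pe {x w : G} (hx : (cen x).index = a) (hw : (cen w).index = c) {s : ℕ}
    (hs : s.Prime) (hwe : PE s w) (hsa : ¬ s ∣ a) : Commute x w := by
  have := Fact.mk hs
  have hwp : IsPGroup s (zpowers w) := by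
    rintro ⟨y, hy⟩
    obtain ⟨n, rfl⟩ := mem_zpowers_iff.1 hy
    obtain ⟨k, hk⟩ := hwe
    refine ⟨k, Subtype.ext ?_⟩
    show (w ^ n) ^ s ^ k = 1
    rw [← zpow_natCast, ← zpow_mul, mul_comm, zpow_mul, zpow_natCast, hk, one_zpow]
  obtain ⟨S', hS'⟩ := hwp.exists_le_sylow
  obtain ⟨S, -, hS⟩ := GroupBasics.exists_sylow_le (Q := ⊥) (H := cen x) (hx.symm ▸ hsa)
    IsPGroup.of_bot bot_le
  obtain ⟨g, hg⟩ := MulAction.exists_smul_eq G S' S
  have hm : g * w * g⁻¹ ∈ (S : Subgroup G) := by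
    rw [← hg, Sylow.coe_subgroup_smul, mem_pointwise_smul_iff_inv_smul_mem]
    simpa [MulAut.smul_def, mul_assoc] using hS' (mem_zpowers w)
  have hw' : (cen (g * w * g⁻¹)).index = c := (index_cen_conj g w).trans hw
  have := h.commute_conj hx hw' (mem_cent.1 (hS hm)).symm g⁻¹
  simpa [mul_assoc] using this

omit h in
/-- An `a`-element and a `c`-element of distinct prime orders commute. -/
def Mixed (G : Type*) [Group G] (a c : ℕ) : Prop :=
  ∃ (r s : ℕ) (x w : G), r.Prime ∧ s.Prime ∧ r ≠ s ∧ orderOf x = r ∧ orderOf w = s ∧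
    (cen x).index = a ∧ (cen w).index = c ∧ Commute x w

omit h in
theorem Mixed.symm (hm : Mixed G a c) : Mixed G c a := by
  obtain ⟨r, s, x, w, hr, hs, hne, hxo, hwo, hx, hw, hcm⟩ := hm
  exact ⟨s, r, w, x, hs, hr, hne.symm, hwo, hxo, hw, hx, hcm.symm⟩

end CfsgLib.ConjRankThree
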