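import Cfsg.Agent.ConjRankThree.SubTwo
import Cfsg.Agent.PrimeOrders.Basic
import Cfsg.Agent.ThreeClassSizes.Main

/-!
The case of commuting elements of class sizes `a` and `c`, and the configuration in which none
commute.
-/

set_option autoImplicit false
set_option linter.unusedSectionVars false

namespace CfsgLib.ConjRankThree

open Subgroup CfsgLib.TwoRegularSizes
open scoped Pointwise

variable {G : Type*} [Group G] [Finite G] {a b c : ℕ}

theorem Sizes.prime_of_dvd_c (h : Sizes G a b c) {r s : ℕ} {x w : G} (hr : r.Prime) (hs : s.Prime)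
    (hne : r ≠ s) (hxo : orderOf x = r) (hwo : orderOf w = s) (hx : (cen x).index = a)
    (hw : (cen w).index = c) (hcm : Commute x w) :
    b = a * c ∧ ∀ d : ℕ, d.Prime → d ∣ c → d = r ∨ d = s := by
  have he : (cen (x * w)).index = a * c := by
    rw [cen_mul_eq hcm (coprime_of_ne hr hs hne hxo hwo), h.index_inf hx hw]
  have hb : b = a * c := by
    have ha := h.one_lt_a
    have hc := h.one_lt_c
    rcases h.dich _ (h.ne_one (by rw [he]; nlinarith)) with e | e | e
    · exfalso; rw [he] at e; nlinarith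
    · exact e.symm.trans he
    · exfalso; rw [he] at e; nlinarith
  have hwA : w ∈ cen x := mem_cent.2 hcm.symm
  have hn : ¬ cen x ≤ cen w := fun hle => by
    have := h.eq_of_le hx hle (ne_one_of_orderOf hs hwo)
    have hh : a = c := by rw [← hx, ← hw, this]
    exact h.not_a_c hh.dvd
  have hco : (orderOf w).Coprime r := hwo.symm ▸ (Nat.coprime_primes hs hr).2 hne.symm
  have hT := h.twoSizes hr hxo hx hb hwA hco hn
  exact ⟨hb, (two_structure hT hs hne.symm (w := ⟨w, hwA⟩)
    (PE_of_orderOf (by rw [Subgroup.orderOf_mk, hwo])) fun e => hn ((mem_center_sub _).1 e)).1⟩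

/-- If an `a`-element and a `c`-element of distinct prime orders commute, only two primes are left. -/
theorem Sizes.isSolvable_of_mixed (h : Sizes G a b c) (hm : Mixed G a c) : Group.IsSolvable G := by
  obtain ⟨r, s, x, w, hr, hs, hne, hxo, hwo, hx, hw, hcm⟩ := hm
  obtain ⟨hb, hc⟩ := h.prime_of_dvd_c hr hs hne hxo hwo hx hw hcm
  obtain ⟨-, ha⟩ := h.symm.prime_of_dvd_c hs hr hne.symm hwo hxo hw hx hcm.symm
  refine PrimeOrders.isSolvable_of_primeFactors_card_le_two
    ((Finset.card_le_card (t := {r, s}) fun d hd => ?_).trans Finset.card_le_two)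
  obtain ⟨hdp, hdd, -⟩ := Nat.mem_primeFactors.1 hd
  rw [Finset.mem_insert, Finset.mem_singleton]
  by_contra hout
  have := Fact.mk hdp
  have hnd : ∀ g : G, ¬ d ∣ (cen g).index := by
    intro g hdg
    have h2 : d ∣ a ∨ d ∣ c := by
      by_cases hg : g = 1
      · subst hg
        rw [cen, show centralizer ({1} : Set G) = ⊤ from eq_top_iff.2 fun u _ =>
          mem_cent.2 (Commute.one_right u), index_top] at hdg
        exact absurd (Nat.dvd_one.1 hdg) hdp.ne_one
      rcases h.dich g hg with e | e | e <;> rw [e] at hdg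
      · exact Or.inl hdg
      · exact hdp.dvd_mul.1 (hb ▸ hdg)
      · exact Or.inr hdg
    rcases h2 with h2 | h2
    · exact hout (ha d hdp h2).symm
    · exact hout (hc d hdp h2)
  obtain ⟨P⟩ : Nonempty (Sylow d G) := inferInstance
  have htop : centralizer ((P : Subgroup G) : Set G) = ⊤ := by
    refine GroupBasics.eq_top_of_forall_conj_mem fun g => ?_
    obtain ⟨S, -, hS⟩ := GroupBasics.exists_sylow_le (Q := ⊥) (hnd g) IsPGroup.of_bot bot_le
    obtain ⟨u, hu⟩ := MulAction.exists_smul_eq G S P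
    refine ⟨u, mem_centralizer_iff.2 fun y hy => ?_⟩
    rw [SetLike.mem_coe, ← hu, Sylow.coe_subgroup_smul, mem_pointwise_smul_iff_inv_smul_mem] at hy
    have h1 := (mem_cent.1 (hS hy)).map (MulAut.conj u).toMonoidHom
    simpa [MulAut.smul_def, mul_assoc] using h1.eq
  refine P.ne_bot_of_dvd_card hdd (eq_bot_iff.2 fun y hy => ?_)
  rw [← h.center_eq, mem_center_iff]
  exact fun g => (mem_centralizer_iff.1 (htop ▸ mem_top g) y hy).symm

/-- An `a`-element whose order is prime to `c`, with `a ∣ b`. -/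
theorem Sizes.isSolvable_of_prime_a (h : Sizes G a b c) (hnm : ¬ Mixed G a c) (hab : a ∣ b) {r : ℕ}
    {x : G} (hr : r.Prime) (hxo : orderOf x = r) (hx : (cen x).index = a) (hrc : ¬ r ∣ c) :
    Group.IsSolvable G := by
  have ha : ∀ d : ℕ, d.Prime → d ∣ a → d = r := by
    intro d hd hda
    by_contra hdr
    obtain ⟨z, hzo, hz⟩ := exists_central_sylow (G := G) hd
      (hda.trans (hx ▸ index_dvd_card (cen x)))
    have hzc : (cen z).index = c := by
      rcases h.dich z (ne_one_of_orderOf hd hzo) with e | e | e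
      · exact absurd (e.symm ▸ hda) hz
      · exact absurd (e.symm ▸ hda.trans hab) hz
      · exact e
    exact hnm ⟨r, d, x, z, hr, hd, Ne.symm hdr, hxo, hzo, hx, hzc,
      (h.symm.commute_of_pe hzc hx hr (PE_of_orderOf hxo) hrc).symm⟩
  obtain ⟨β, hb⟩ := hab
  obtain ⟨H, hH, k, hk⟩ := h.exists_nilpotent hr hxo hx hb
  obtain ⟨j, hj⟩ := exists_eq_pow (by have := h.one_lt_a; omega) ha
  have : Group.IsNilpotent (H.map (cen x).subtype) :=
    Group.nilpotent_of_mulEquiv (H.equivMapOfInjective _ (cen x).subtype_injective)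
  exact isSolvable_of_index_pow hr (H.map (cen x).subtype) (k := k + j)
    (by rw [index_map_subtype, hk, hx, hj, pow_add])

/-- A `c`-element whose order is prime to `a`, with `a ∣ b`. -/
theorem Sizes.isSolvable_of_prime_c (h : Sizes G a b c) (hnm : ¬ Mixed G a c) {s : ℕ}
    {w : G} (hs : s.Prime) (hwo : orderOf w = s) (hw : (cen w).index = c) (hsa : ¬ s ∣ a) :
    Group.IsSolvable G := by
  by_cases hcb : c ∣ b
  · exact h.symm.isSolvable_of_prime_a (fun hm => hnm hm.symm) hcb hs hwo hw hsa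
  obtain ⟨x₁, hx₁⟩ := h.exA
  obtain ⟨r, x, hr, hxo, -, hxe⟩ := h.exists_prime_rep hx₁
  have hx : (cen x).index = a := by rw [hxe, hx₁]
  have hcm := h.commute_of_pe hx hw hs (PE_of_orderOf hwo) hsa
  have hrs : r = s := by_contra fun hne => hnm ⟨r, s, x, w, hr, hs, hne, hxo, hwo, hx, hw, hcm⟩
  have hgrp : ∀ t : ℕ, t.Prime → t ∣ Nat.card (cen w) → t = s := by
    intro t ht htd
    by_contra hts
    have := Fact.mk ht
    obtain ⟨⟨v, hv⟩, hvo⟩ := exists_prime_orderOf_dvd_card' t htd
    rw [Subgroup.orderOf_mk] at hvo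
    have hwv := cen_mul_eq (mem_cent.1 hv).symm (coprime_of_ne hs ht (Ne.symm hts) hwo hvo)
    have hd : c ∣ (cen (w * v)).index := hw ▸ index_dvd_of_le (hwv ▸ inf_le_left)
    have hne1 : w * v ≠ 1 := h.ne_one (lt_of_lt_of_le h.one_lt_c
      (Nat.le_of_dvd (Nat.pos_of_ne_zero index_ne_zero_of_finite) hd))
    rcases h.dich _ hne1 with e | e | e
    · exact h.symm.not_a_c (e ▸ hd)
    · exact hcb (e ▸ hd)
    have hle : cen w ≤ cen v := by
      have := eq_of_le_of_index_eq (hwv ▸ inf_le_left : cen (w * v) ≤ cen w) (e.trans hw.symm)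
      exact inf_eq_left.1 (hwv ▸ this)
    have hve := h.symm.eq_of_le hw hle (ne_one_of_orderOf ht hvo)
    refine hnm ⟨r, t, x, v, hr, ht, hrs ▸ Ne.symm hts, hxo, hvo, hx, by rw [hve, hw], ?_⟩
    exact mem_cent.1 (show x ∈ cen v by rw [hve]; exact mem_cent.2 hcm)
  obtain ⟨k, hk⟩ := exists_eq_pow Nat.card_pos.ne' hgrp
  have had : a ∣ Nat.card (cen w) := h.cop.dvd_of_dvd_mul_right (by
    rw [← hw, card_mul_index, ← hx]
    exact index_dvd_card _)
  obtain ⟨d, hd, hda⟩ := Nat.exists_prime_and_dvd (n := a) (by have := h.one_lt_a; omega)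
  exact absurd (hgrp d hd (hda.trans had) ▸ hda) hsa

/-- The configuration in which no `a`-element commutes with a `c`-element. -/
structure Split (G : Type*) [Group G] (a b c : ℕ) : Prop extends Sizes G a b c where
  dvd : a ∣ b
  nested : ∃ x y : G, (cen x).index = a ∧ (cen y).index = b ∧ cen y ≤ cen x
  prime_a : ∀ (r : ℕ) (x : G), r.Prime → orderOf x = r → (cen x).index = a → r ∣ c
  prime_c : ∀ (s : ℕ) (w : G), s.Prime → orderOf w = s → (cen w).index = c → s ∣ a
  not_mixed : ¬ Mixed G a c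

theorem Sizes.split_of_not_solvable (h : Sizes G a b c) (hns : ¬ Group.IsSolvable G) (hab : a ∣ b)
    (hnest : ∃ x y : G, (cen x).index = a ∧ (cen y).index = b ∧ cen y ≤ cen x) : Split G a b c := by
  have hnm : ¬ Mixed G a c := fun hm => hns (h.isSolvable_of_mixed hm)
  exact ⟨h, hab, hnest,
    fun r x hr hxo hx => by_contra fun hh => hns (h.isSolvable_of_prime_a hnm hab hr hxo hx hh),
    fun s w hs hwo hw => by_contra fun hh => hns (h.isSolvable_of_prime_c hnm hs hwo hw hh), hnm⟩

section SplitFacts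

variable (h : Split G a b c)

include h

theorem Split.not_commute {x w : G} (hx : (cen x).index = a) (hw : (cen w).index = c) :
    ¬ Commute x w := fun hcm => by
  obtain ⟨r, x', hr, hxo, hxz, hxe⟩ := h.exists_prime_rep hx
  obtain ⟨s, w', hs, hwo, hwz, hwe⟩ := h.toSizes.symm.exists_prime_rep hw
  have hr' := h.prime_a r x' hr hxo (by rw [hxe, hx])
  have hs' := h.prime_c s w' hs hwo (by rw [hwe, hw])
  refine h.not_mixed ⟨r, s, x', w', hr, hs, ?_, hxo, hwo, by rw [hxe, hx], by rw [hwe, hw], ?_⟩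
  · rintro rfl
    exact hr.ne_one (Nat.eq_one_of_dvd_coprimes h.cop hs' hr')
  · obtain ⟨m, rfl⟩ := mem_zpowers_iff.1 hxz
    obtain ⟨n, rfl⟩ := mem_zpowers_iff.1 hwz
    exact hcm.zpow_zpow m n

theorem Split.inf_eq_bot {x w : G} (hx : (cen x).index = a) (hw : (cen w).index = c) :
    cen x ⊓ cen w = ⊥ := by
  obtain ⟨r, x', hr, hxo, -, hxe⟩ := h.exists_prime_rep hx
  obtain ⟨s, w', hs, hwo, -, hwe⟩ := h.toSizes.symm.exists_prime_rep hw
  rw [← hxe, ← hwe]
  replace hx : (cen x').index = a := by rw [hxe, hx]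
  replace hw : (cen w').index = c := by rw [hwe, hw]
  have hrs : r ≠ s := fun e => hr.ne_one (Nat.eq_one_of_dvd_coprimes h.cop
    (e ▸ h.prime_c s w' hs hwo hw) (h.prime_a r x' hr hxo hx))
  by_contra hne
  obtain ⟨u, hu, hu1⟩ := ((cen x' ⊓ cen w').bot_or_exists_ne_one).resolve_left hne
  obtain ⟨t, ht, hd⟩ := Nat.exists_prime_and_dvd fun e => hu1 (orderOf_eq_one_iff.1 e)
  obtain ⟨v, hvz, hvo⟩ := exists_order_prime ht hd
  have hv := zpowers_le.2 hu hvz
  have hv1 := ne_one_of_orderOf ht hvo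
  have hxv : Commute x' v := (mem_cent.1 (mem_inf.1 hv).1).symm
  have hwv : Commute w' v := (mem_cent.1 (mem_inf.1 hv).2).symm
  rcases h.dich v hv1 with e | e | e
  · exact h.not_commute e hw hwv.symm
  swap
  · exact h.not_commute hx e hxv
  -- a `b`-element commuting with both
  have key : ∀ {a₀ c₀ : ℕ} (h₀ : Sizes G a₀ b c₀) {p : ℕ} {y z : G}, p.Prime → orderOf y = p →
      p ≠ t → (cen y).index = a₀ → Commute y v → Commute z v → Commute y z := by
    intro a₀ c₀ h₀ p y z hp hyo hpt hy hyv hzv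
    have he := cen_mul_eq hyv (coprime_of_ne hp ht hpt hyo hvo)
    have hd : a₀ ∣ (cen (y * v)).index := hy ▸ index_dvd_of_le (he ▸ inf_le_left)
    have hd' : b ∣ (cen (y * v)).index := e ▸ index_dvd_of_le (he ▸ inf_le_right)
    have hne1 : y * v ≠ 1 := h₀.ne_one (lt_of_lt_of_le h₀.one_lt_a
      (Nat.le_of_dvd (Nat.pos_of_ne_zero index_ne_zero_of_finite) hd))
    rcases h₀.dich _ hne1 with e' | e' | e'
    · exact absurd (e' ▸ hd') h₀.not_b_a
    · have hh := eq_of_le_of_index_eq (he ▸ inf_le_right : cen (y * v) ≤ cen v) (e'.trans e.symm)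
      have hle : cen v ≤ cen y := by rw [← hh, he]; exact inf_le_left
      have hzy : z ∈ cen y := hle (mem_cent.2 hzv)
      exact (mem_cent.1 hzy).symm
    · exact absurd (e' ▸ hd') h₀.not_b_c
  by_cases htr : r = t
  · exact h.not_commute hx hw (key h.toSizes.symm hs hwo (htr ▸ hrs.symm) hw hwv hxv).symm
  · exact h.not_commute hx hw (key h.toSizes hr hxo htr hx hxv hwv)

theorem Split.card_eq : Nat.card G = a * c := by
  obtain ⟨x, hx⟩ := h.exA
  obtain ⟨w, hw⟩ := h.exC
  rw [← h.index_inf hx hw, h.inf_eq_bot hx hw, index_bot]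

theorem Split.card_cen_a {x : G} (hx : (cen x).index = a) : Nat.card (cen x) = c := by
  have h1 := (cen x).card_mul_index
  rw [hx, h.card_eq, mul_comm a c] at h1
  exact Nat.eq_of_mul_eq_mul_right (by have := h.one_lt_a; omega) h1

theorem Split.card_cen_c {w : G} (hw : (cen w).index = c) : Nat.card (cen w) = a := by
  have h1 := (cen w).card_mul_index
  rw [hw, h.card_eq] at h1
  exact Nat.eq_of_mul_eq_mul_right (by have := h.one_lt_c; omega) h1

theorem Split.card_cen_b {g : G} (hg : (cen g).index = b) : Nat.card (cen g) ∣ c := by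
  obtain ⟨x, y, hx, hy, hle⟩ := h.nested
  have h1 := (cen g).card_mul_index.trans (cen y).card_mul_index.symm
  rw [hg, hy] at h1
  rw [Nat.eq_of_mul_eq_mul_right (Nat.pos_of_ne_zero (hy ▸ index_ne_zero_of_finite)) h1,
    ← h.card_cen_a hx]
  exact card_dvd_of_le hle

theorem Split.index_eq_c {g : G} (hg : g ≠ 1) {t : ℕ} (ht : t.Prime) (htg : t ∣ orderOf g)
    (hta : t ∣ a) : (cen g).index = c := by
  have h1 : t ∣ Nat.card (cen g) :=
    htg.trans ((Subgroup.orderOf_mk _ (self_mem_cen g)) ▸ orderOf_dvd_natCard _)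
  rcases h.dich g hg with e | e | e
  · exact absurd (Nat.eq_one_of_dvd_coprimes h.cop hta (h.card_cen_a e ▸ h1)) ht.ne_one
  · exact absurd (Nat.eq_one_of_dvd_coprimes h.cop hta (h1.trans (h.card_cen_b e))) ht.ne_one
  · exact e

theorem Split.index_a_or_b {g : G} (hg : g ≠ 1) {t : ℕ} (ht : t.Prime) (htg : t ∣ orderOf g)
    (htc : t ∣ c) : (cen g).index = a ∨ (cen g).index = b := by
  have h1 : t ∣ Nat.card (cen g) :=
    htg.trans ((Subgroup.orderOf_mk _ (self_mem_cen g)) ▸ orderOf_dvd_natCard _)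
  rcases h.dich g hg with e | e | e
  · exact Or.inl e
  · exact Or.inr e
  · exact absurd (Nat.eq_one_of_dvd_coprimes h.cop (h.card_cen_c e ▸ h1) htc) ht.ne_one

/-- The elements of the centraliser of an `s`-element of class size `c` of order prime to `s` are
central in it. -/
theorem Split.cen_c_le {w : G} (hw : (cen w).index = c) {s : ℕ} (hs : s.Prime) (hwo : orderOf w = s)
    {y : G} (hy : y ∈ cen w) (hco : (orderOf y).Coprime s) : cen w ≤ cen y := by
  have hcm : Commute w y := (mem_cent.1 hy).symm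
  have he := cen_mul_eq hcm (hwo ▸ hco.symm)
  have hsd : s ∣ orderOf (w * y) := by
    rw [hcm.orderOf_mul_eq_mul_orderOf_of_coprime (hwo ▸ hco.symm), hwo]
    exact dvd_mul_right _ _
  have hne : w * y ≠ 1 := fun e => hs.ne_one (Nat.dvd_one.1 (by rwa [e, orderOf_one] at hsd))
  have := eq_of_le_of_index_eq (he ▸ inf_le_left : cen (w * y) ≤ cen w)
    ((h.index_eq_c hne hs hsd (h.prime_c s w hs hwo hw)).trans hw.symm)
  exact inf_eq_left.1 (he ▸ this)

theorem Split.isNilpotent_cen_c {w : G} (hw : (cen w).index = c) : Group.IsNilpotent (cen w) := by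
  obtain ⟨s, w', hs, hwo, -, hwe⟩ := h.toSizes.symm.exists_prime_rep hw
  rw [← hwe]
  refine isNilpotent_of_regular_central hs fun y hy => (mem_center_sub y).2 ?_
  exact h.cen_c_le (by rw [hwe, hw]) hs hwo y.2 (by rwa [Subgroup.orderOf_coe])

/-- The centraliser of a `c`-element of prime order is a group of that prime or is abelian. -/
theorem Split.cen_c_cases {w : G} (hw : (cen w).index = c) {s : ℕ} (hs : s.Prime)
    (hwo : orderOf w = s) : IsPGroup s (cen w) ∨ IsMulCommutative (cen w) := by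
  by_cases hp : ∀ t : ℕ, t.Prime → t ∣ Nat.card (cen w) → t = s
  · obtain ⟨k, hk⟩ := exists_eq_pow Nat.card_pos.ne' hp
    exact Or.inl (IsPGroup.of_card hk)
  push Not at hp
  obtain ⟨t, ht, htd, hts⟩ := hp
  have := Fact.mk ht
  obtain ⟨⟨v, hv⟩, hvo⟩ := exists_prime_orderOf_dvd_card' t htd
  rw [Subgroup.orderOf_mk] at hvo
  have hle := h.cen_c_le hw hs hwo hv (hvo ▸ (Nat.coprime_primes ht hs).2 hts)
  have hve := h.toSizes.symm.eq_of_le hw hle (ne_one_of_orderOf ht hvo)
  suffices hc : ∀ p ∈ cen w, ∀ q ∈ cen w, Commute p q from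
    Or.inr ⟨⟨fun p q => Subtype.ext (hc p p.2 q q.2).eq⟩⟩
  refine ThreeClassSizes.commute_of_forall_pe fun d hd y hy hye => ?_
  by_cases hds : d = s
  · have := h.cen_c_le (w := v) (by rw [hve, hw]) ht hvo (hve.symm ▸ hy)
      (hye.coprime ((Nat.coprime_primes hd ht).2 (hds ▸ Ne.symm hts)))
    rwa [hve] at this
  · exact h.cen_c_le hw hs hwo hy (hye.coprime ((Nat.coprime_primes hd hs).2 hds))

end SplitFacts

end CfsgLib.ConjRankThree
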