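import Cfsg.Agent.ConjRankThree.Cases
import Cfsg.Agent.Factorizations.KegelWielandt
import Cfsg.Agent.S0033

/-!
General lemmas used in the configuration without commuting elements of sizes `a` and `c`.
-/

set_option autoImplicit false
set_option linter.unusedSectionVars false

namespace CfsgLib.ConjRankThree

open Subgroup CfsgLib.TwoRegularSizes

variable {G : Type*} [Group G] [Finite G]

theorem isSolvable_of_normal_factor {N H : Subgroup G} [N.Normal] (hN : Group.IsSolvable N)
    (hH : Group.IsSolvable H) (hf : Factorizations.Factors N H) : Group.IsSolvable G := by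
  have : Group.IsSolvable (G ⧸ N) := by
    refine Group.isSolvable_of_surjective (f := (QuotientGroup.mk' N).comp H.subtype) fun q => ?_
    obtain ⟨g, rfl⟩ := QuotientGroup.mk'_surjective N q
    obtain ⟨u, hu, k, hk, rfl⟩ := hf g
    exact ⟨⟨k, hk⟩, by
      rw [map_mul]
      simp [(QuotientGroup.eq_one_iff u).2 hu]⟩
  exact Group.isSolvable_of_ker_le_range N.subtype (QuotientGroup.mk' N)
    (by rw [QuotientGroup.ker_mk', range_subtype])

theorem mem_normalizer_of_map_eq {H : Subgroup G} {k : G}
    (hn : H.map (MulAut.conj k).toMonoidHom = H) : k ∈ normalizer (H : Set G) := by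
  rw [mem_normalizer_iff]
  intro u
  constructor
  · intro hu
    have := mem_map_of_mem (MulAut.conj k).toMonoidHom hu
    rwa [hn] at this
  · intro hu
    rw [← hn] at hu
    obtain ⟨d, hd, e⟩ := hu
    exact (MulAut.conj k).injective e ▸ hd

/-- An element of prime order normalising a subgroup without commuting with any of its non-identity
elements makes it nilpotent. -/
theorem isNilpotent_of_normalized {H : Subgroup G} {k : G} {t : ℕ} (ht : t.Prime)
    (hk : orderOf k = t) (hkn : k ∈ normalizer (H : Set G))
    (hfix : H ⊓ cen k = ⊥) : Group.IsNilpotent H := by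
  let f := H.normalizerMonoidHom
  let φ : H ≃* H := f ⟨k, hkn⟩
  have hfp : MonoidHom.FixedPointFree (φ : H →* H) := by
    intro u hu
    have h1 : k * (u : G) * k⁻¹ = u := congrArg Subtype.val hu
    exact Subtype.ext (mem_bot.1 (hfix ▸ mem_inf.2 ⟨u.2,
      mem_cent.2 (mul_inv_eq_iff_eq_mul.1 h1).symm⟩))
  have ho : orderOf φ ∣ t := hk ▸ (Subgroup.orderOf_mk k hkn ▸ orderOf_map_dvd f ⟨k, hkn⟩)
  rcases (Nat.dvd_prime ht).1 ho with e | e
  · have hφ := orderOf_eq_one_iff.1 e
    have hH : H = ⊥ := eq_bot_iff.2 fun u hu => mem_bot.2 (congrArg Subtype.val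
      (hfp ⟨u, hu⟩ (by rw [hφ]; rfl)))
    subst hH
    exact (IsPGroup.of_bot (p := t) (G := G)).isNilpotent (hp := ⟨ht⟩)
  · exact Cfsg.Agent.S0033.result φ hfp t ht e

/-- An involution normalising a subgroup without commuting with any of its non-identity elements
makes it abelian and inverts it. -/
theorem inverts_of_involution {H : Subgroup G} {j : G} (hj : orderOf j = 2)
    (hn : ∀ u ∈ H, j * u * j ∈ H) (hfix : ∀ u ∈ H, Commute j u → u = 1) :
    (∀ u ∈ H, j * u * j = u⁻¹) ∧ IsMulCommutative H := by
  have hjj : j * j = 1 := by rw [← sq, ← hj, pow_orderOf_eq_one]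
  let φ : H →* H :=
    { toFun := fun u => ⟨j * u * j, hn u u.2⟩
      map_one' := Subtype.ext (by simp [hjj])
      map_mul' := fun u v => Subtype.ext (by
        show j * (u * v : G) * j = j * u * j * (j * v * j)
        calc j * (u * v : G) * j = j * u * (1 * v) * j := by group
          _ = _ := by rw [← hjj]; group) }
  have hfp : MonoidHom.FixedPointFree φ := by
    intro u hu
    refine Subtype.ext (hfix u u.2 ?_)
    have h1 : j * (u : G) * j = u := congrArg Subtype.val hu
    calc j * (u : G) = j * u * (j * j) := by rw [hjj, mul_one]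
      _ = (j * u * j) * j := by group
      _ = u * j := by rw [h1]
  have h2 : Function.Involutive φ := fun u => Subtype.ext (by
    show j * (j * u * j) * j = u
    calc j * (j * (u : G) * j) * j = (j * j) * u * (j * j) := by group
      _ = u := by simp [hjj])
  refine ⟨fun u hu => ?_, ⟨⟨fun p q => hfp.commute_all_of_involutive h2 p q⟩⟩⟩
  exact congrArg Subtype.val (congrFun (hfp.coe_eq_inv_of_involutive h2) ⟨u, hu⟩)

/-- A group without non-trivial abelian normal subgroups has no non-trivial solvable ones. -/
theorem eq_bot_of_solvable (hna : ∀ V : Subgroup G, V.Normal → IsMulCommutative V → V = ⊥)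
    (N : Subgroup G) [N.Normal] [Group.IsSolvable N] : N = ⊥ := by
  by_contra hne
  have : Nontrivial N := (nontrivial_iff_ne_bot N).2 hne
  have hF := Solvable.fittingSubgroup_ne_bot (G := N)
  have : (Cfsg.fittingSubgroup N).Characteristic := Solvable.fittingSubgroup_characteristic
  have : Group.IsNilpotent (Cfsg.fittingSubgroup N) := Solvable.fittingSubgroup_isNilpotent
  have : Nontrivial (Cfsg.fittingSubgroup N) := (nontrivial_iff_ne_bot _).2 hF
  set M := (Cfsg.fittingSubgroup N).map N.subtype
  have hMn : M.Normal := inferInstance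
  have : Group.IsNilpotent M := Group.nilpotent_of_mulEquiv
    ((Cfsg.fittingSubgroup N).equivMapOfInjective _ N.subtype_injective)
  have hM : Nontrivial M := ((Cfsg.fittingSubgroup N).equivMapOfInjective _
    N.subtype_injective).symm.toEquiv.nontrivial
  have hZ := Solvable.inf_center_ne_bot (G := M) (N := ⊤) top_ne_bot
  rw [top_inf_eq] at hZ
  have hab : IsMulCommutative ((center M).map M.subtype) :=
    ⟨⟨fun ⟨_, u, hu, rfl⟩ ⟨_, v, hv, rfl⟩ =>
      Subtype.ext (show (u : G) * v = v * u from congrArg Subtype.val (mem_center_iff.1 hv u))⟩⟩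
  exact hZ ((map_eq_bot_iff_of_injective _ M.subtype_injective).1 (hna _ inferInstance hab))

end CfsgLib.ConjRankThree
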