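import Mathlib
import Cfsg.Agent.Characters.Induction
import Cfsg.Agent.Characters.Linear
import Cfsg.Agent.Characters.Classes
import Cfsg.Agent.Characters.Burnside

/-!
A group with an abelian Hall subgroup containing the centralisers of its non-identity elements and
with a complement `A`: the constituents of the permutation character on the cosets of `A` have
degree prime to the order of the Hall subgroup, so an element whose class has that order and lies
in a minimal normal subgroup `T` fixes exactly as many cosets as `T` has orbits.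
-/

set_option autoImplicit false
set_option linter.unusedSectionVars false

namespace CfsgLib.ConjRankThree

open Subgroup CfsgLib.Characters Cfsg
open scoped ComplexConjugate

universe u

variable {G : Type u} [Group G] [Fintype G] {A B : Subgroup G}

/-- An abelian subgroup with abelian centralisers and a complement of coprime order. -/
structure CCData (A B : Subgroup G) : Prop where
  comm : IsMulCommutative B
  cc : ∀ b ∈ B, b ≠ 1 → centralizer ({b} : Set G) = B
  cop : (Nat.card A).Coprime (Nat.card B)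
  card : Nat.card G = Nat.card A * Nat.card B

/-- The permutation character on the cosets of `A`. -/
noncomputable def permChar (A : Subgroup G) (g : G) : ℂ :=
  (Nat.card (MulAction.fixedBy (G ⧸ A) g) : ℂ)

/-- Conjugation by an element of the normalizer, as an action on the irreducible characters. -/
noncomputable def cjIrr (x : normalizer (B : Set G)) (l : IrrCharacter B) : IrrCharacter B :=
  ⟨fun b => (l : B → ℂ) (B.normalizerMonoidHom x b),
    isIrr_comp (B.normalizerMonoidHom x).toMonoidHom (B.normalizerMonoidHom x).surjective l.2⟩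

theorem cjIrr_mul (x y : normalizer (B : Set G)) (l : IrrCharacter B) :
    cjIrr (x * y) l = cjIrr y (cjIrr x l) := by
  apply Subtype.ext
  funext b
  show (l : B → ℂ) _ = (l : B → ℂ) _
  rw [map_mul]
  rfl

theorem cjIrr_one (l : IrrCharacter B) : cjIrr (1 : normalizer (B : Set G)) l = l := by
  apply Subtype.ext
  funext b
  show (l : B → ℂ) _ = (l : B → ℂ) _
  rw [map_one]
  rfl

variable (h : CCData A B)

include h

theorem CCData.index_A : A.index = Nat.card B :=
  Nat.eq_of_mul_eq_mul_left Nat.card_pos (A.card_mul_index.trans h.card)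

theorem CCData.index_B : B.index = Nat.card A :=
  Nat.eq_of_mul_eq_mul_left Nat.card_pos (B.card_mul_index.trans (h.card.trans (mul_comm _ _)))

theorem CCData.irr_linear (l : IrrCharacter B) :
    ∃ f : B →* ℂˣ, (l : B → ℂ) = fun b => (f b : ℂ) := by
  haveI := Fintype.ofFinite B
  refine exists_hom_of_degree_one (isCharacter_of_isIrr l.2) ?_ |>.imp fun f hf => ?_
  · obtain ⟨n, ρ, hρ, e⟩ := l.2
    have hd := finrank_dvd_center_index ρ
    have hc : center B = ⊤ := eq_top_iff.2 fun b _ => mem_center_iff.2 fun g =>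
      (h.comm.is_comm.comm g b)
    rw [hc, index_top, Nat.dvd_one] at hd
    rw [← e, Representation.char_one, hd, Nat.cast_one]
  · exact hf

theorem CCData.cjIrr_of_mem {x : normalizer (B : Set G)} (hx : (x : G) ∈ B) (k : IrrCharacter B) :
    cjIrr x k = k := by
  apply Subtype.ext
  funext b
  exact congrArg (k : B → ℂ)
    (Subtype.ext (mul_inv_eq_iff_eq_mul.2 (congrArg Subtype.val (h.comm.is_comm.comm ⟨x, hx⟩ b))))

/-- Only elements of `B` fix a non-trivial character of `B`. -/
theorem CCData.eq_one_of_cjIrr {x : normalizer (B : Set G)} (hx : (x : G) ∉ B) {l : IrrCharacter B}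
    (hl : cjIrr x l = l) : (l : B → ℂ) = fun _ => 1 := by
  obtain ⟨f, hf⟩ := h.irr_linear l
  have hinj : Function.Injective fun b : B => b⁻¹ * B.normalizerMonoidHom x b := by
    intro p q e
    simp only at e
    have hcm := h.comm.is_comm.comm
    have hfix : B.normalizerMonoidHom x (p * q⁻¹) = p * q⁻¹ := by
      rw [map_mul, map_inv]
      rw [inv_mul_eq_iff_eq_mul] at e
      rw [e, ← mul_assoc, mul_inv_cancel_right]
    by_contra hne
    have hne' : ((p * q⁻¹ : B) : G) ≠ 1 := fun e' => hne (mul_inv_eq_one.1 (Subtype.ext e'))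
    refine hx ?_
    refine (SetLike.ext_iff.1 (h.cc _ (p * q⁻¹).2 hne') (x : G)).1 (mem_centralizer_singleton_iff.2 ?_)
    have h1 : (x : G) * ((p * q⁻¹ : B) : G) * (x : G)⁻¹ = ((p * q⁻¹ : B) : G) :=
      congrArg Subtype.val hfix
    exact mul_inv_eq_iff_eq_mul.1 h1
  funext b
  obtain ⟨d, hd⟩ := (Finite.injective_iff_surjective.1 hinj) b
  have h2 := congrFun (congrArg Subtype.val hl) d
  change (l : B → ℂ) (B.normalizerMonoidHom x d) = (l : B → ℂ) d at h2
  rw [← hd, hf]
  rw [hf] at h2
  simp only at h2 ⊢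
  rw [map_mul, map_inv, Units.val_mul, h2, ← Units.val_mul, inv_mul_cancel, Units.val_one]

theorem CCData.permChar_of_mem {b : G} (hb : b ∈ B) (hb1 : b ≠ 1) : permChar A b = 0 := by
  rw [permChar, Nat.cast_eq_zero]
  have : IsEmpty (MulAction.fixedBy (G ⧸ A) b) := by
    refine ⟨fun ⟨q, hq⟩ => ?_⟩
    obtain ⟨g, rfl⟩ := QuotientGroup.mk_surjective q
    rw [MulAction.mem_fixedBy, MulAction.Quotient.smul_coe, QuotientGroup.eq, smul_eq_mul] at hq
    have h1 : g⁻¹ * b * g ∈ A := by
      have := A.inv_mem hq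
      simpa [mul_assoc] using this
    have h2 : orderOf (g⁻¹ * b * g) = orderOf b := by
      rw [show g⁻¹ * b * g = MulAut.conj g⁻¹ b by simp, MulEquiv.orderOf_eq]
    refine hb1 (orderOf_eq_one_iff.1 (Nat.eq_one_of_dvd_coprimes h.cop ?_ ?_))
    · rw [← h2, ← Subgroup.orderOf_mk _ h1]; exact orderOf_dvd_natCard _
    · rw [← Subgroup.orderOf_mk _ hb]; exact orderOf_dvd_natCard _
  exact Nat.card_of_isEmpty

omit h in
theorem permChar_one : permChar A (1 : G) = A.index := by
  rw [permChar, show MulAction.fixedBy (G ⧸ A) (1 : G) = Set.univ from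
    Set.eq_univ_of_forall (one_smul G), Nat.card_congr (Equiv.Set.univ _)]
  rfl

omit h in
theorem isCharacter_permChar : IsCharacter G (permChar A) := by
  have e : permChar A = indFun (MulAction.stabilizer G ((1 : G) : G ⧸ A)) fun _ => 1 :=
    funext fun g => card_fixedBy_eq_indFun (G ⧸ A) _ g
  rw [e]
  exact isCharacter_indFun _ isCharacter_one

theorem CCData.sum_coeff (c : IrrCharacter G → ℕ)
    (hc : permChar A = ∑ χ, (c χ : ℂ) • (χ : G → ℂ)) [Fintype B] (n : IrrCharacter G → IrrCharacter B → ℕ)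
    (hn : ∀ (χ : IrrCharacter G) (l : IrrCharacter B),
      classInner (fun b : B => (χ : G → ℂ) b) (l : B → ℂ) = n χ l) (l : IrrCharacter B) :
    ∑ χ, c χ * n χ l = 1 := by
  have h1 : classInner (fun b : B => permChar A b) (l : B → ℂ) = 1 := by
    obtain ⟨f, hf⟩ := h.irr_linear l
    rw [classInner, Finset.sum_eq_single (1 : B) (fun b _ hb => by
      rw [h.permChar_of_mem b.2 fun e => hb (Subtype.ext e), zero_mul])
      (fun hh => absurd (Finset.mem_univ _) hh), hf, OneMemClass.coe_one, permChar_one, h.index_A]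
    simp
  have h2 : (fun b : B => permChar A b) = ∑ χ, (c χ : ℂ) • fun b : B => (χ : G → ℂ) b := by
    funext b
    rw [hc]
    simp
  rw [h2, classInner_sum_left] at h1
  simp only [classInner_smul_left, hn] at h1
  exact_mod_cast h1

/-- The norm of a difference of two characters of `B` induced to `G`. -/
theorem CCData.norm_sub [Fintype B] (n : IrrCharacter G → IrrCharacter B → ℕ)
    (hn : ∀ (χ : IrrCharacter G) (l : IrrCharacter B),
      classInner (fun b : B => (χ : G → ℂ) b) (l : B → ℂ) = n χ l) {l m : IrrCharacter B}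
    (hl : (l : B → ℂ) ≠ fun _ => 1) (hm : (m : B → ℂ) ≠ fun _ => 1)
    (hlm : ∀ x : normalizer (B : Set G), cjIrr x l ≠ m) :
    ∑ χ, ((n χ l : ℤ) - n χ m) ^ 2 = 2 := by
  classical
  have hml : ∀ x : normalizer (B : Set G), cjIrr x m ≠ l := fun x e => hlm x⁻¹ (by
    rw [← e, ← cjIrr_mul, mul_inv_cancel, cjIrr_one])
  set f : B → ℂ := (l : B → ℂ) - (m : B → ℂ) with hf
  have hreal : ∀ χ : IrrCharacter G,
      classInner (indFun B f) (χ : G → ℂ) = ((n χ l : ℤ) - n χ m : ℤ) := by
    intro χ
    rw [classInner_indFun B f (isClassFunction_of_isIrr χ.2), classInner_sub_left,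
      classInner_conj_symm (fun b : B => (χ : G → ℂ) b) (l : B → ℂ),
      classInner_conj_symm (fun b : B => (χ : G → ℂ) b) (m : B → ℂ), hn, hn]
    simp
  have hI := classInner_eq_sum (isClassFunction_indFun B f) (indFun B f)
  simp only [hreal, map_intCast] at hI
  rw [classInner_indFun B f (isClassFunction_indFun B f)] at hI
  have hf1 : f 1 = 0 := by
    obtain ⟨p, hp⟩ := h.irr_linear l
    obtain ⟨q, hq⟩ := h.irr_linear m
    simp [hf, hp, hq]
  have hres : ∀ b : B, indFun B f b =
      (Nat.card B : ℂ)⁻¹ * ∑ x : normalizer (B : Set G), f (B.normalizerMonoidHom x b) := by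
    intro b
    simp only [indFun]
    congr 1
    by_cases hb : b = 1
    · subst hb
      simp only [map_one, hf1, Finset.sum_const_zero, OneMemClass.coe_one, mul_one, inv_mul_cancel]
      rw [extendByZero_of_mem B f (one_mem B)]
      have : (⟨1, one_mem B⟩ : B) = 1 := rfl
      simp [this, hf1]
    rw [← Equiv.sum_comp (Equiv.inv G)]
    simp only [Equiv.inv_apply, inv_inv]
    rw [← Finset.sum_subset (Finset.subset_univ
      (Finset.univ.filter fun x : G => x ∈ normalizer (B : Set G))) fun x _ hx => ?_]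
    · rw [Finset.sum_subtype (p := fun x : G => x ∈ normalizer (B : Set G))
        (Finset.univ.filter fun x : G => x ∈ normalizer (B : Set G))
        (fun x => by simp) fun x => extendByZero B f (x * b * x⁻¹)]
      exact Finset.sum_congr rfl fun x _ => extendByZero_coe B f (B.normalizerMonoidHom x b)
    · refine extendByZero_of_not_mem B f fun hxb => hx ?_
      refine Finset.mem_filter.2 ⟨Finset.mem_univ _, ?_⟩
      have hb' : (b : G) ≠ 1 := fun e => hb (Subtype.ext e)
      have e1 := h.cc b b.2 hb'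
      have e2 := h.cc _ hxb (fun e => hb' (by
        rwa [mul_inv_eq_one, mul_eq_left] at e))
      rw [mem_normalizer_iff]
      intro k
      constructor
      · intro hk
        rw [← e2, mem_centralizer_singleton_iff]
        rw [← e1, mem_centralizer_singleton_iff] at hk
        calc x * k * x⁻¹ * (x * b * x⁻¹) = x * (k * b) * x⁻¹ := by group
          _ = x * (b * k) * x⁻¹ := by rw [hk]
          _ = x * b * x⁻¹ * (x * k * x⁻¹) := by group
      · intro hk
        rw [← e2, mem_centralizer_singleton_iff] at hk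
        rw [← e1, mem_centralizer_singleton_iff]
        calc k * b = x⁻¹ * (x * k * x⁻¹ * (x * b * x⁻¹)) * x := by group
          _ = x⁻¹ * (x * b * x⁻¹ * (x * k * x⁻¹)) * x := by rw [hk]
          _ = b * k := by group
  have hinner : ∀ x : normalizer (B : Set G),
      classInner f (fun b => f (B.normalizerMonoidHom x b)) = if (x : G) ∈ B then 2 else 0 := by
    intro x
    have e : (fun b => f (B.normalizerMonoidHom x b)) = (cjIrr x l : B → ℂ) - (cjIrr x m : B → ℂ) :=
      rfl
    rw [e, hf, classInner_sub_left, classInner_sub_right, classInner_sub_right]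
    simp only [classInner_irr, if_neg (hml x).symm, if_neg (hlm x).symm]
    by_cases hx : (x : G) ∈ B
    · have hfix := h.cjIrr_of_mem hx
      rw [if_pos hx, if_pos (hfix l).symm, if_pos (hfix m).symm]
      norm_num
    · rw [if_neg hx, if_neg fun e => hl (h.eq_one_of_cjIrr hx e.symm),
        if_neg fun e => hm (h.eq_one_of_cjIrr hx e.symm)]
      norm_num
  have hsum : classInner f (fun b : B => indFun B f b) = 2 := by
    rw [show (fun b : B => indFun B f b) = (Nat.card B : ℂ)⁻¹ •
        ∑ x : normalizer (B : Set G), fun b => f (B.normalizerMonoidHom x b) by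
      funext b; rw [hres b]; simp]
    rw [classInner_smul_right, classInner_sum_right, Finset.sum_congr rfl fun x _ => hinner x,
      Finset.sum_ite, Finset.sum_const_zero, add_zero, Finset.sum_const, nsmul_eq_mul]
    have hcard : (Finset.univ.filter fun x : normalizer (B : Set G) => (x : G) ∈ B).card = Nat.card B := by
      rw [← Fintype.card_subtype, ← Nat.card_eq_fintype_card]
      exact Nat.card_congr ⟨fun x => ⟨x.1.1, x.2⟩,
        fun b => ⟨⟨b.1, le_normalizer b.2⟩, b.2⟩, fun _ => rfl, fun _ => rfl⟩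
    rw [hcard, map_inv₀, map_natCast, ← mul_assoc, inv_mul_cancel₀ (subgroup_card_ne_zero B), one_mul]
  rw [hsum] at hI
  have h2 : ((∑ χ, ((n χ l : ℤ) - n χ m) ^ 2 : ℤ) : ℂ) = ((2 : ℤ) : ℂ) := by
    rw [Int.cast_sum, Int.cast_ofNat, hI]
    exact Finset.sum_congr rfl fun χ _ => by push_cast; ring
  exact_mod_cast h2

/-- The non-trivial constituents of the permutation character have degree prime to `|B|`. -/
theorem CCData.coprime_degree (c : IrrCharacter G → ℕ)
    (hc : permChar A = ∑ χ, (c χ : ℂ) • (χ : G → ℂ)) {χ₀ : IrrCharacter G} (hχ : c χ₀ ≠ 0)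
    (hne : (χ₀ : G → ℂ) ≠ fun _ => 1) :
    ∃ d : ℕ, (χ₀ : G → ℂ) 1 = d ∧ d.Coprime (Nat.card B) := by
  classical
  haveI := Fintype.ofFinite B
  choose n hn using fun (χ : IrrCharacter G) (l : IrrCharacter B) =>
    classInner_character_irr (isCharacter_restrict B (isCharacter_of_isIrr χ.2)) l.2
  have hsum := h.sum_coeff c hc n hn
  let one : IrrCharacter B := ⟨fun _ => 1, isIrr_one⟩
  let oneG : IrrCharacter G := ⟨fun _ => 1, isIrr_one⟩
  -- the trivial character occurs once, with trivial restriction
  have hcone : c oneG = 1 := by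
    have h1 : classInner (permChar A) (oneG : G → ℂ) = c oneG := by rw [hc, classInner_irr_coeff]
    have h2 : classInner (permChar A) (oneG : G → ℂ) = 1 := by
      haveI := Fintype.ofFinite (G ⧸ A)
      haveI := Fintype.ofFinite (MulAction.orbitRel.Quotient G (G ⧸ A))
      haveI : ∀ g : G, Fintype (MulAction.fixedBy (G ⧸ A) g) := fun g => Fintype.ofFinite _
      have hb := MulAction.sum_card_fixedBy_eq_card_orbits_mul_card_group G (G ⧸ A)
      simp only [← Nat.card_eq_fintype_card] at hb
      have horb : Nat.card (MulAction.orbitRel.Quotient G (G ⧸ A)) = 1 :=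
        Nat.card_eq_one_iff_unique.2 ⟨MulAction.pretransitive_iff_subsingleton_quotient G (G ⧸ A)
          |>.1 inferInstance, ⟨Quotient.mk'' ((1 : G) : G ⧸ A)⟩⟩
      rw [horb, one_mul] at hb
      show (Nat.card G : ℂ)⁻¹ * ∑ g : G, permChar A g * conj (1 : ℂ) = 1
      simp only [permChar, map_one, mul_one]
      rw [← Nat.cast_sum, hb, inv_mul_cancel₀ natCard_ne_zero]
    exact_mod_cast h1.symm.trans h2
  have hnone : n oneG one = 1 := by
    have h1 := hn oneG one
    rw [show (fun b : B => (oneG : G → ℂ) b) = (one : B → ℂ) from rfl,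
      classInner_isIrr_self one.2] at h1
    exact_mod_cast h1.symm
  have huniq : ∀ (l : IrrCharacter B) (χ ψ : IrrCharacter G), c χ * n χ l ≠ 0 → ψ ≠ χ →
      c ψ * n ψ l = 0 ∧ c χ * n χ l = 1 := by
    intro l χ ψ h1 hne'
    have h2 : c χ * n χ l + c ψ * n ψ l ≤ ∑ φ, c φ * n φ l := by
      rw [← Finset.sum_pair (f := fun φ => c φ * n φ l) (Ne.symm hne')]
      exact Finset.sum_le_sum_of_subset (Finset.subset_univ _)
    rw [hsum l] at h2
    omega
  have hn0 : n χ₀ one = 0 := by
    by_contra hh
    exact absurd (huniq one oneG χ₀ (by rw [hcone, hnone]; norm_num)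
      (fun e => hne (congrArg Subtype.val e))).1 (mul_ne_zero hχ hh)
  have hn01 : ∀ l, n χ₀ l = 0 ∨ n χ₀ l = 1 := by
    intro l
    by_contra hh
    push Not at hh
    have := Finset.single_le_sum (f := fun φ => c φ * n φ l) (fun _ _ => Nat.zero_le _)
      (Finset.mem_univ χ₀)
    rw [hsum l] at this
    have h3 : 2 ≤ n χ₀ l := by omega
    have h4 : 2 ≤ c χ₀ * n χ₀ l := h3.trans (Nat.le_mul_of_pos_left _ (Nat.pos_of_ne_zero hχ))
    omega
  set S := Finset.univ.filter fun l : IrrCharacter B => n χ₀ l = 1 with hS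
  refine ⟨S.card, ?_, ?_⟩
  · have h1 := congrFun (character_expansion (isCharacter_restrict B
      (isCharacter_of_isIrr χ₀.2))) (1 : B)
    simp only [OneMemClass.coe_one, Finset.sum_apply, Pi.smul_apply, smul_eq_mul] at h1
    rw [h1, hS, Finset.card_filter, Nat.cast_sum]
    refine Finset.sum_congr rfl fun l _ => ?_
    obtain ⟨f, hf⟩ := h.irr_linear l
    rw [hn, hf]
    rcases hn01 l with e | e <;> simp [e]
  -- `S` is stable under the normaliser
  have hinv : ∀ (x : normalizer (B : Set G)) (χ : IrrCharacter G) (l : IrrCharacter B),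
      n χ (cjIrr x l) = n χ l := by
    intro x χ l
    have h1 : classInner (fun b : B => (χ : G → ℂ) b) (cjIrr x l : B → ℂ) =
        classInner (fun b : B => (χ : G → ℂ) b) (l : B → ℂ) := by
      simp only [classInner]
      congr 1
      refine Fintype.sum_equiv (B.normalizerMonoidHom x).toEquiv _ _ fun b => ?_
      have hxb : ((B.normalizerMonoidHom x b : B) : G) = (x : G) * b * (x : G)⁻¹ := rfl
      show (χ : G → ℂ) b * conj ((l : B → ℂ) (B.normalizerMonoidHom x b)) =
        (χ : G → ℂ) (B.normalizerMonoidHom x b : B) * conj ((l : B → ℂ) (B.normalizerMonoidHom x b))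
      rw [hxb, isClassFunction_of_isIrr χ.2]
    rw [hn, hn] at h1
    exact_mod_cast h1
  by_cases horb : ∀ l ∈ S, ∀ m ∈ S, ∃ x : normalizer (B : Set G), cjIrr x l = m
  · -- one orbit
    rcases S.eq_empty_or_nonempty with hE | ⟨l, hl⟩
    · exfalso
      have h1 := congrFun (character_expansion (isCharacter_restrict B
        (isCharacter_of_isIrr χ₀.2))) (1 : B)
      simp only [OneMemClass.coe_one, Finset.sum_apply, Pi.smul_apply, smul_eq_mul] at h1
      refine irr_one_ne_zero χ₀.2 (h1.trans (Finset.sum_eq_zero fun k _ => ?_))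
      have hk : n χ₀ k = 0 := (hn01 k).resolve_right fun e =>
        Finset.notMem_empty k (hE ▸ Finset.mem_filter.2 ⟨Finset.mem_univ k, e⟩)
      rw [hn, hk, Nat.cast_zero, zero_mul]
    have hl1 : (l : B → ℂ) ≠ fun _ => 1 := by
      intro e
      have : n χ₀ l = 1 := (Finset.mem_filter.1 hl).2
      rw [show l = one from Subtype.ext e, hn0] at this
      exact Nat.zero_ne_one this
    let φ : normalizer (B : Set G) ⧸ B.subgroupOf (normalizer (B : Set G)) → {m // m ∈ S} :=
      Quotient.lift (fun x => ⟨cjIrr x⁻¹ l, Finset.mem_filter.2 ⟨Finset.mem_univ _,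
        (hinv _ χ₀ l).trans (Finset.mem_filter.1 hl).2⟩⟩) fun x y hxy => by
        have hxy' : x⁻¹ * y ∈ B.subgroupOf (normalizer (B : Set G)) :=
          QuotientGroup.leftRel_apply.1 hxy
        apply Subtype.ext
        show cjIrr x⁻¹ l = cjIrr y⁻¹ l
        have hfix := h.cjIrr_of_mem (x := x⁻¹ * y) hxy'
        conv_rhs => rw [← hfix l, ← cjIrr_mul, mul_inv_cancel_right]
    have hbij : Function.Bijective φ := by
      constructor
      · rintro ⟨x⟩ ⟨y⟩ e
        apply Quotient.sound
        refine QuotientGroup.leftRel_apply.2 ?_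
        have e' : cjIrr x⁻¹ l = cjIrr y⁻¹ l := congrArg Subtype.val e
        by_contra hxy
        refine hl1 (h.eq_one_of_cjIrr (x := x⁻¹ * y) hxy ?_)
        rw [cjIrr_mul, e', ← cjIrr_mul, inv_mul_cancel, cjIrr_one]
      · rintro ⟨m, hm⟩
        obtain ⟨x, hx⟩ := horb l hl m hm
        exact ⟨Quotient.mk'' x⁻¹, Subtype.ext (by show cjIrr x⁻¹⁻¹ l = m; rw [inv_inv, hx])⟩
    have h1 := Nat.card_congr (Equiv.ofBijective φ hbij)
    rw [← index_eq_card, Nat.card_eq_fintype_card, Fintype.card_coe] at h1
    refine Nat.Coprime.coprime_dvd_left ?_ h.cop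
    rw [← h1, ← relIndex, ← h.index_B, ← relIndex_mul_index (le_normalizer (H := B))]
    exact dvd_mul_right _ _
  -- all non-trivial characters
  push Not at horb
  obtain ⟨l, hl, l', hl', hll'⟩ := horb
  have hall : ∀ m : IrrCharacter B, m ≠ one → m ∈ S := by
    intro m hm1
    by_contra hm
    have hne1 : ∀ k ∈ S, (k : B → ℂ) ≠ fun _ => 1 := fun k hk e => by
      have := (Finset.mem_filter.1 hk).2
      rw [show k = one from Subtype.ext e, hn0] at this
      exact Nat.zero_ne_one this
    have hm1' : (m : B → ℂ) ≠ fun _ => 1 := fun e => hm1 (Subtype.ext e)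
    have hoff : ∀ k ∈ S, ∀ x : normalizer (B : Set G), cjIrr x k ≠ m := fun k hk x e => hm (by
      rw [← e]
      exact Finset.mem_filter.2 ⟨Finset.mem_univ _, (hinv x χ₀ k).trans (Finset.mem_filter.1 hk).2⟩)
    obtain ⟨ψ, -, hψ⟩ : ∃ ψ ∈ (Finset.univ : Finset (IrrCharacter G)), c ψ * n ψ m ≠ 0 :=
      Finset.exists_ne_zero_of_sum_ne_zero (by rw [hsum m]; norm_num)
    have hψne : ψ ≠ χ₀ := by
      rintro rfl
      exact hm (Finset.mem_filter.2 ⟨Finset.mem_univ _,
        (hn01 m).resolve_left (right_ne_zero_of_mul hψ)⟩)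
    have hk : ∀ k ∈ S, ∀ θ : IrrCharacter G, θ ≠ χ₀ → θ ≠ ψ → n θ k = n θ m := by
      intro k hk θ hθ1 hθ2
      have h2 := h.norm_sub n hn (hne1 k hk) hm1' (hoff k hk)
      have e1 : n χ₀ k = 1 := (Finset.mem_filter.1 hk).2
      have e2 : n χ₀ m = 0 := (hn01 m).resolve_right fun e =>
        hm (Finset.mem_filter.2 ⟨Finset.mem_univ _, e⟩)
      have e3 : n ψ k = 0 := by
        have := (huniq k χ₀ ψ (mul_ne_zero hχ (by rw [e1]; norm_num)) hψne).1
        exact (mul_eq_zero.1 this).resolve_left (left_ne_zero_of_mul hψ)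
      have e4 : 1 ≤ n ψ m := Nat.pos_of_ne_zero (right_ne_zero_of_mul hψ)
      have h3 : ((n χ₀ k : ℤ) - n χ₀ m) ^ 2 + ((n ψ k : ℤ) - n ψ m) ^ 2 +
          ((n θ k : ℤ) - n θ m) ^ 2 ≤ ∑ φ, ((n φ k : ℤ) - n φ m) ^ 2 := by
        refine le_trans (le_of_eq ?_) (Finset.sum_le_sum_of_subset_of_nonneg
          (Finset.subset_univ ({χ₀, ψ, θ} : Finset (IrrCharacter G))) fun _ _ _ => sq_nonneg _)
        rw [Finset.sum_insert (by simp [hψne.symm, hθ1.symm]), Finset.sum_pair hθ2.symm, add_assoc]
      rw [h2, e1, e2, e3] at h3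
      have h4 : (1 : ℤ) ≤ n ψ m := by exact_mod_cast e4
      have h5 : ((n θ k : ℤ) - n θ m) ^ 2 ≤ 0 := by push_cast at h3; nlinarith
      have h6 := sq_eq_zero_iff.1 (le_antisymm h5 (sq_nonneg _))
      omega
    have h2 := h.norm_sub n hn (hne1 l hl) (hne1 l' hl') hll'
    have hz : ∀ θ : IrrCharacter G, n θ l = n θ l' := by
      intro θ
      by_cases h1 : θ = χ₀
      · rw [h1, (Finset.mem_filter.1 hl).2, (Finset.mem_filter.1 hl').2]
      by_cases h3 : θ = ψ
      · subst h3
        have hz0 : ∀ k ∈ S, n θ k = 0 := fun k hk' => by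
          have := (huniq k χ₀ θ (mul_ne_zero hχ (by rw [(Finset.mem_filter.1 hk').2]; norm_num)) h1).1
          exact (mul_eq_zero.1 this).resolve_left (left_ne_zero_of_mul hψ)
        rw [hz0 l hl, hz0 l' hl']
      rw [hk l hl θ h1 h3, hk l' hl' θ h1 h3]
    simp [hz] at h2
  have hSeq : S = Finset.univ.erase one := by
    ext m
    rw [Finset.mem_erase, and_iff_left (Finset.mem_univ _)]
    refine ⟨fun hm e => ?_, hall m⟩
    subst e
    have := (Finset.mem_filter.1 hm).2
    rw [hn0] at this
    exact Nat.zero_ne_one this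
  have hcard : Nat.card (IrrCharacter B) = Nat.card B := by
    rw [card_irrCharacter]
    refine (Nat.card_congr (Equiv.ofBijective ConjClasses.mk
      ⟨fun p q e => ?_, ConjClasses.mk_surjective⟩)).symm
    obtain ⟨g, hg⟩ := isConj_iff.1 (ConjClasses.mk_eq_mk_iff_isConj.1 e)
    rw [← hg, h.comm.is_comm.comm g p, mul_inv_cancel_right]
  rw [hSeq, Finset.card_erase_of_mem (Finset.mem_univ _), Finset.card_univ,
    ← Nat.card_eq_fintype_card, hcard]
  have : 0 < Nat.card B := Nat.card_pos
  exact Nat.coprime_self_sub_left (by omega : 1 ≤ Nat.card B) |>.2 (Nat.coprime_one_left _)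

/-- An element of class size `|B|` in a non-abelian minimal normal subgroup `T` fixes as many
cosets of `A` as `T` has orbits. -/
theorem CCData.card_fixed_eq {T : Subgroup G} [T.Normal]
    (hmin : ∀ N : Subgroup G, N.Normal → N ≤ T → N = ⊥ ∨ N = T) (hT : ¬ IsMulCommutative T)
    {z : G} (hzT : z ∈ T) (hz1 : z ≠ 1) (hz : (centralizer ({z} : Set G)).index = Nat.card B) :
    Nat.card (MulAction.fixedBy (G ⧸ A) z) = Nat.card (MulAction.orbitRel.Quotient T (G ⧸ A)) := by
  classical
  obtain ⟨c, hc⟩ := exists_nat_coeff (isCharacter_permChar (A := A))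
  haveI := Fintype.ofFinite T
  have key : ∀ χ : IrrCharacter G,
      (c χ : ℂ) * ((χ : G → ℂ) z * Nat.card T - ∑ t : T, (χ : G → ℂ) t) = 0 := by
    intro χ
    by_cases hcχ : c χ = 0
    · simp [hcχ]
    by_cases hne : (χ : G → ℂ) = fun _ => 1
    · simp [hne, Nat.card_eq_fintype_card]
    obtain ⟨d, hd, hdc⟩ := h.coprime_degree c hc hcχ hne
    obtain ⟨k, ρ, hρ, e⟩ := χ.2
    rw [← e] at hd ⊢
    have hfr : Module.finrank ℂ (Fin k → ℂ) = d := by
      rw [Representation.char_one] at hd
      exact_mod_cast hd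
    by_cases hker : ∀ t ∈ T, ρ t = LinearMap.id
    · have hval : ∀ t ∈ T, ρ.character t = d := fun t ht => by
        rw [(char_eq_finrank_iff ρ t).2 (hker t ht), hfr]
      rw [hval z hzT, Finset.sum_congr rfl fun (t : T) _ => hval t t.2, Finset.sum_const,
        Finset.card_univ, nsmul_eq_mul, Nat.card_eq_fintype_card]
      ring
    have hzero : ρ.character z = 0 := by
      refine (char_zero_or_norm_of_coprime ρ z (by rw [hfr, hz]; exact hdc)).resolve_right
        fun hn => hker ?_
      obtain ⟨ω, hω⟩ := (norm_char_eq_iff_scalar ρ z).1 hn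
      let K : Subgroup G := MonoidHom.ker ρ
      let M : Subgroup G := (center (G ⧸ K)).comap (QuotientGroup.mk' K)
      have hzM : z ∈ M := by
        rw [mem_comap, mem_center_iff]
        intro q
        obtain ⟨g, rfl⟩ := QuotientGroup.mk'_surjective K q
        rw [← map_mul, ← map_mul, QuotientGroup.mk'_apply, QuotientGroup.mk'_apply, QuotientGroup.eq]
        rw [MonoidHom.mem_ker, map_mul]
        have hcm : ρ g * ρ z = ρ z * ρ g := by
          rw [hω]
          exact LinearMap.ext fun v => by simp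
        rw [map_mul, ← hcm, ← map_mul, ← map_mul, inv_mul_cancel, map_one]
      have hTM : T ≤ M := by
        rcases hmin (T ⊓ M) inferInstance inf_le_left with e | e
        · exact absurd (mem_bot.1 (e ▸ mem_inf.2 ⟨hzT, hzM⟩)) hz1
        · exact inf_eq_left.1 e
      rcases hmin (T ⊓ K) inferInstance inf_le_left with e | e
      · refine absurd ⟨⟨fun p q => ?_⟩⟩ hT
        have h1 := mem_center_iff.1 (mem_comap.1 (hTM p.2)) (QuotientGroup.mk' K (q : G))
        rw [← map_mul, ← map_mul, QuotientGroup.mk'_apply, QuotientGroup.mk'_apply,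
          QuotientGroup.eq] at h1
        have h2 : ((q : G) * p)⁻¹ * ((p : G) * q) ∈ T ⊓ K := mem_inf.2
          ⟨mul_mem (inv_mem (mul_mem q.2 p.2)) (mul_mem p.2 q.2), h1⟩
        rw [e, mem_bot, inv_mul_eq_one] at h2
        exact Subtype.ext h2.symm
      · exact fun t ht => MonoidHom.mem_ker.1 (mem_inf.1 (e.symm ▸ ht : t ∈ T ⊓ K)).2
    have hsum : ∑ t : T, ρ.character t = 0 := by
      push Not at hker
      obtain ⟨t₀, ht₀, hne0⟩ := hker
      set E : (Fin k → ℂ) →ₗ[ℂ] (Fin k → ℂ) := ∑ t : T, ρ t with hE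
      obtain ⟨ω, hω⟩ := schur_scalar ρ E fun g v => by
        have hE' : E * ρ g = ρ g * E := by
          rw [hE, Finset.sum_mul, Finset.mul_sum]
          refine Fintype.sum_equiv (MulAut.conjNormal g⁻¹).toEquiv _ _ fun t => ?_
          rw [← map_mul, ← map_mul]
          congr 1
          show (t : G) * g = g * (g⁻¹ * t * g⁻¹⁻¹)
          group
        exact LinearMap.congr_fun hE' v
      have hfix : ρ t₀ * E = E := by
        rw [hE, Finset.mul_sum]
        refine Fintype.sum_equiv (Equiv.mulLeft ⟨t₀, ht₀⟩) _ _ fun t => ?_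
        rw [← map_mul]
        rfl
      have hω0 : ω = 0 := by
        by_contra hω0
        refine hne0 ?_
        have h1 : ω • ρ t₀ = ω • (1 : Module.End ℂ (Fin k → ℂ)) := by
          have h2 : ρ t₀ * E = ω • ρ t₀ := by rw [hω]; ext v; simp
          rw [← h2, hfix, hω]
          rfl
        exact smul_right_injective _ hω0 h1
      calc ∑ t : T, ρ.character t = LinearMap.trace ℂ _ E := by rw [hE, map_sum]; rfl
        _ = 0 := by rw [hω, hω0, zero_smul, map_zero]
    rw [hzero, hsum]
    simp
  have h1 : permChar A z * Nat.card T = ∑ t : T, permChar A (t : G) := by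
    rw [hc]
    simp only [Finset.sum_apply, Pi.smul_apply, smul_eq_mul, Finset.sum_mul]
    rw [Finset.sum_comm]
    refine Finset.sum_congr rfl fun χ _ => sub_eq_zero.1 ?_
    rw [← Finset.mul_sum, mul_assoc, ← mul_sub]
    exact key χ
  haveI := Fintype.ofFinite (G ⧸ A)
  haveI := Fintype.ofFinite (MulAction.orbitRel.Quotient T (G ⧸ A))
  haveI : ∀ t : T, Fintype (MulAction.fixedBy (G ⧸ A) t) := fun t => Fintype.ofFinite _
  have hb := MulAction.sum_card_fixedBy_eq_card_orbits_mul_card_group T (G ⧸ A)
  simp only [← Nat.card_eq_fintype_card] at hb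
  have h2 : ∑ t : T, permChar A (t : G) =
      (Nat.card (MulAction.orbitRel.Quotient T (G ⧸ A)) * Nat.card T : ℕ) := by
    rw [← hb, Nat.cast_sum]
    rfl
  rw [h2, Nat.cast_mul] at h1
  have h3 := mul_right_cancel₀ natCard_ne_zero h1
  rw [permChar] at h3
  exact_mod_cast h3

end CfsgLib.ConjRankThree
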