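import Cfsg.Agent.ConjRankThree.Common
import Cfsg.Agent.ConjRankThree.PermChar
import Cfsg.Agent.S4160
import Cfsg.Agent.S4037
import Cfsg.Agent.S0205
import Cfsg.Agent.S0215

/-!
When no `a`-element commutes with a `c`-element and `a` is odd, the group is solvable.
-/

set_option autoImplicit false
set_option linter.unusedSectionVars false

namespace CfsgLib.ConjRankThree

open Subgroup CfsgLib.TwoRegularSizes Cfsg
open scoped Pointwise

universe u

variable {G : Type u} [Group G] [Finite G] {a b c β : ℕ}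

/-- A normal `p`-complement contains every element of order prime to `p`. -/
theorem exists_complement {t : ℕ} (ht : t.Prime) (h : HasNormalPComplement t G) :
    ∃ N : Subgroup G, N.Normal ∧ ¬ t ∣ Nat.card N ∧ ∀ g : G, (orderOf g).Coprime t → g ∈ N := by
  have := Fact.mk ht
  obtain ⟨P, N, hN, hc⟩ := h
  refine ⟨N, hN, ?_, fun g hg => mem_of_pow_mem (n := N.index) ?_ (N.pow_index_mem g)⟩
  · rw [← hc.index_eq_card]
    exact P.not_dvd_index
  · rw [hc.symm.index_eq_card, P.card_eq_multiplicity]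
    exact hg.pow_right _

theorem even_of_not_solvable (hns : ¬ Group.IsSolvable G) : 2 ∣ Nat.card G := by
  by_contra h2
  exact hns (Cfsg.Agent.S0205.result (Nat.odd_iff.2 (Nat.two_dvd_ne_zero.1 h2)))

variable (h : Split G a b c)

include h

theorem Split.isSolvable_cen_a {x : G} (hx : (cen x).index = a) : Group.IsSolvable (cen x) := by
  obtain ⟨r, e, hr, heo, -, hee⟩ := h.exists_prime_rep hx
  obtain ⟨β, hb⟩ := h.dvd
  rw [← hee]
  exact h.isSolvable_cen hr heo (by rw [hee, hx]) hb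

theorem Split.isSolvable_of_nilpotent_cen {x : G} (hx : (cen x).index = a)
    (hn : Group.IsNilpotent (cen x)) : Group.IsSolvable G := by
  obtain ⟨w, hw⟩ := h.exC
  have := h.isNilpotent_cen_c hw
  exact Factorizations.isSolvable_of_nilpotent (h.factor hx hw)

theorem Split.prime_dvd_cases {t : ℕ} (ht : t.Prime) (hd : t ∣ Nat.card G) : t ∣ a ∨ t ∣ c :=
  ht.dvd_mul.1 (h.card_eq ▸ hd)

/-- Distinct elements of a `c`-centraliser conjugate an `a`-centraliser to distinct subgroups. -/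
theorem Split.conj_injective (hns : ¬ Group.IsSolvable G) {x w k k' : G} (hx : (cen x).index = a)
    (hw : (cen w).index = c) (hk : k ∈ cen w) (hk' : k' ∈ cen w)
    (he : cen (k * x * k⁻¹) = cen (k' * x * k'⁻¹)) : k = k' := by
  by_contra hne
  set u := k⁻¹ * k'
  have hu1 : u ≠ 1 := fun e => hne (inv_mul_eq_one.1 e)
  have hun : u ∈ normalizer ((cen x : Subgroup G) : Set G) := by
    refine ThreeClassSizes.mem_normalizer_of_cent_eq ?_
    have h1 : u * x * u⁻¹ = k⁻¹ * (k' * x * k'⁻¹) * k⁻¹⁻¹ := by simp only [u]; group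
    show cen (u * x * u⁻¹) = cen x
    rw [h1, cen, ThreeClassSizes.conj_cent]
    show (cen (k' * x * k'⁻¹)).map _ = cen x
    rw [← he, cen, ← ThreeClassSizes.conj_cent]
    simp [mul_assoc]
  obtain ⟨t, ht, hd⟩ := Nat.exists_prime_and_dvd fun e => hu1 (orderOf_eq_one_iff.1 e)
  obtain ⟨v, hvz, hvo⟩ := exists_order_prime ht hd
  have hvw : v ∈ cen w := zpowers_le.2 (mul_mem (inv_mem hk) hk') hvz
  have hta : t ∣ a := by
    rw [← h.card_cen_c hw, ← hvo, ← Subgroup.orderOf_mk v hvw]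
    exact orderOf_dvd_natCard _
  have hvc := h.index_eq_c (ne_one_of_orderOf ht hvo) ht (hvo ▸ dvd_rfl) hta
  exact hns (h.isSolvable_of_nilpotent_cen hx (isNilpotent_of_normalized ht hvo
    (zpowers_le.2 hun hvz) (h.inf_eq_bot hx hvc)))

section Ratio

variable (hb : b = a * β)

include hb

theorem Split.card_cen_b_mul {g : G} (hg : (cen g).index = b) : Nat.card (cen g) * β = c := by
  have h1 := (cen g).card_mul_index
  rw [hg, hb, h.card_eq, mul_left_comm] at h1
  exact Nat.eq_of_mul_eq_mul_left (by have := h.one_lt_a; omega) h1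

theorem Split.ratio_dvd : β ∣ c := by
  obtain ⟨x, y, hx, hy, -⟩ := h.nested
  exact ⟨_, ((mul_comm _ _).trans (h.card_cen_b_mul hb hy)).symm⟩

/-- The case in which the ratio `β` is a power of a prime. -/
theorem Split.isSolvable_of_one_prime (p₀ : ℕ) (hp₀ : p₀.Prime)
    (hβ : ∀ d : ℕ, d.Prime → d ∣ β → d = p₀) : Group.IsSolvable G := by
  obtain ⟨x, hx⟩ := h.exA
  obtain ⟨w, hw⟩ := h.exC
  have hA := h.isSolvable_cen_a hx
  have hB := h.isNilpotent_cen_c hw
  have hpair : ∀ q t : ℕ, q.Prime → t.Prime → q ∣ c → q ≠ p₀ → t ∣ a →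
      HasNormalPComplement q G ∨ HasNormalPComplement t G := by
    intro q t hq ht hqc hqp hta
    have hqt : q ≠ t := fun e => hq.ne_one (Nat.eq_one_of_dvd_coprimes h.cop (e ▸ hta) hqc)
    refine Cfsg.Agent.S4160.result q t hq ht hqt ⟨w, hw.symm ▸ hqc⟩ ⟨x, hx.symm ▸ hta⟩ fun g hd => ?_
    have hd1 : q ∣ (cen g).index := (dvd_mul_right q t).trans hd
    have hd2 : t ∣ (cen g).index := (dvd_mul_left t q).trans hd
    by_cases hg : g = 1
    · subst hg
      rw [cen, show centralizer ({1} : Set G) = ⊤ from eq_top_iff.2 fun u _ =>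
        mem_cent.2 (Commute.one_right u), index_top] at hd1
      exact hq.ne_one (Nat.dvd_one.1 hd1)
    rcases h.dich g hg with e | e | e
    · exact hq.ne_one (Nat.eq_one_of_dvd_coprimes h.cop (e ▸ hd1) hqc)
    · rcases hq.dvd_mul.1 (hb ▸ e ▸ hd1) with hh | hh
      · exact hq.ne_one (Nat.eq_one_of_dvd_coprimes h.cop hh hqc)
      · exact hqp (hβ q hq hh)
    · exact ht.ne_one (Nat.eq_one_of_dvd_coprimes h.cop hta (e ▸ hd2))
  by_cases hall : ∀ t : ℕ, t.Prime → t ∣ a → HasNormalPComplement t G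
  · set S : Set G := {g | (orderOf g).Coprime a}
    set K := normalClosure S
    have hKc : (Nat.card K).Coprime a := Nat.coprime_of_dvd fun t ht htK hta => by
      obtain ⟨N, hN, hNt, hmem⟩ := exists_complement ht (hall t ht hta)
      exact hNt (htK.trans (card_dvd_of_le (normalClosure_le_normal fun g hg =>
        hmem g (Nat.Coprime.coprime_dvd_right hta hg))))
    have hAK : cen x ≤ K := fun g hg => subset_normalClosure
      (show (orderOf g).Coprime a from (Nat.Coprime.coprime_dvd_left (by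
        rw [← h.card_cen_a hx, ← Subgroup.orderOf_mk g hg]; exact orderOf_dvd_natCard _) h.cop.symm))
    have hKd : Nat.card K ∣ c :=
      hKc.dvd_of_dvd_mul_left (h.card_eq ▸ card_subgroup_dvd_card K)
    have he : cen x = K := eq_of_le_of_card_ge hAK
      ((Nat.le_of_dvd (by have := h.one_lt_c; omega) hKd).trans (h.card_cen_a hx).ge)
    have : (cen x).Normal := he ▸ normalClosure_normal
    exact isSolvable_of_normal_factor hA inferInstance (h.factor hx hw)
  push Not at hall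
  obtain ⟨t₀, ht₀, ht₀a, hno⟩ := hall
  set S : Set G := {g | ∀ q : ℕ, q.Prime → q ∣ c → q ≠ p₀ → ¬ q ∣ orderOf g}
  set K := normalClosure S
  have hKq : ∀ q : ℕ, q.Prime → q ∣ c → q ≠ p₀ → ¬ q ∣ Nat.card K := by
    intro q hq hqc hqp hqK
    obtain ⟨N, hN, hNq, hmem⟩ := exists_complement hq
      ((hpair q t₀ hq ht₀ hqc hqp ht₀a).resolve_right hno)
    exact hNq (hqK.trans (card_dvd_of_le (normalClosure_le_normal fun g hg =>
      hmem g ((hq.coprime_iff_not_dvd.2 (hg q hq hqc hqp)).symm))))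
  have hBK : cen w ≤ K := fun g hg => subset_normalClosure (show g ∈ S from fun q hq hqc _ hqo =>
    hq.ne_one (Nat.eq_one_of_dvd_coprimes h.cop (hqo.trans (by
      rw [← h.card_cen_c hw, ← Subgroup.orderOf_mk g hg]; exact orderOf_dvd_natCard _)) hqc))
  have : Group.IsNilpotent ((cen w).subgroupOf K) :=
    Group.nilpotent_of_mulEquiv (subgroupOfEquivOfLe hBK).symm
  obtain ⟨k, hk⟩ := exists_eq_pow (n := ((cen w).subgroupOf K).index) index_ne_zero_of_finite
    fun d hd hdi => by_contra fun hne => hKq d hd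
      (hdi.trans (hw ▸ relIndex_dvd_index_of_le hBK)) hne (hdi.trans (index_dvd_card _))
  have hKs : Group.IsSolvable K := isSolvable_of_index_pow hp₀ _ hk
  refine isSolvable_of_normal_factor hKs hA fun g => ?_
  obtain ⟨p, hp, q, hq, rfl⟩ := (h.factor hx hw).symm g
  exact ⟨p, hBK hp, q, hq, rfl⟩

section TwoPrimes

variable {r l : ℕ} (hr : r.Prime) (hl : l.Prime) (hrl : r ≠ l) (hrβ : r ∣ β) (hlβ : l ∣ β)
  (hns : ¬ Group.IsSolvable G)

theorem Split.index_eq_a_of_ratio {p : ℕ} {z : G} (hp : p.Prime) (hpβ : p ∣ β) (hzo : orderOf z = p)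
    (hz : ¬ p ∣ (cen z).index) : (cen z).index = a := by
  refine (h.index_a_or_b (ne_one_of_orderOf hp hzo) hp (hzo ▸ dvd_rfl)
    (hpβ.trans (h.ratio_dvd hb))).resolve_right fun e => hz ?_
  rw [e, hb]
  exact dvd_mul_of_dvd_right hpβ a

theorem Split.eq_cen_aux {q p : ℕ} {x z : G} (hq : q.Prime) (hxo : orderOf x = q)
    (hx : (cen x).index = a) (hp : p.Prime) (hpβ : p ∣ β) (hne : p ≠ q) [Fact p.Prime]
    {P : Sylow p G} (hP : (P : Subgroup G) ≤ cen x) (hzP : z ∈ (P : Subgroup G))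
    (hzo : orderOf z = p) (hPz : (P : Subgroup G) ≤ cen z) : cen z = cen x := by
  rcases h.dich_sub hq hxo hx hb (hP hzP) (hzo ▸ (Nat.coprime_primes hp hq).2 hne) with e | ⟨e, -⟩
  · exact h.eq_of_le hx e (ne_one_of_orderOf hp hzo)
  · exfalso
    rw [cen_mul_eq (mem_cent.1 (hP hzP)).symm (coprime_of_ne hq hp hne.symm hxo hzo)] at e
    refine P.not_dvd_index (dvd_trans ?_ (index_dvd_of_le (le_inf hP hPz)))
    rw [e, hb]
    exact dvd_mul_of_dvd_right hpβ a

include hr hl hrl hrβ hlβ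

theorem Split.exists_rep {x : G} (hx : (cen x).index = a) (q : ℕ) :
    ∃ (p : ℕ) (e : G), (p = r ∨ p = l) ∧ p ≠ q ∧ orderOf e = p ∧ cen e = cen x := by
  have hβc := h.ratio_dvd hb
  have key : ∀ p : ℕ, p.Prime → p ∣ β → ∀ (s : ℕ) (y : G), s.Prime → orderOf y = s →
      cen y = cen x → p ≠ s → ∃ e : G, orderOf e = p ∧ cen e = cen x := by
    intro p hp hpβ s y hs hyo hye hne
    have := Fact.mk hp
    have hpa : ¬ p ∣ (cen y).index := fun hd => hp.ne_one
      (Nat.eq_one_of_dvd_coprimes h.cop (by rwa [hye, hx] at hd) (hpβ.trans hβc))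
    obtain ⟨P, -, hP⟩ := GroupBasics.exists_sylow_le (Q := ⊥) hpa IsPGroup.of_bot bot_le
    obtain ⟨z, hzP, hzo, hPz⟩ := exists_central_mem P
      ((hpβ.trans hβc).trans (h.card_eq ▸ dvd_mul_left c a))
    exact ⟨z, hzo, (h.eq_cen_aux hb hs hyo (by rw [hye, hx]) hp hpβ hne hP hzP hzo hPz).trans hye⟩
  obtain ⟨s, y, hs, hyo, -, hye⟩ := h.exists_prime_rep hx
  -- elements for both primes
  have hboth : (∃ e, orderOf e = r ∧ cen e = cen x) ∧ (∃ e, orderOf e = l ∧ cen e = cen x) := by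
    by_cases hsr : r = s
    · subst hsr
      exact ⟨⟨y, hyo, hye⟩, key l hl hlβ r y hs hyo hye hrl.symm⟩
    · obtain ⟨e, heo, hee⟩ := key r hr hrβ s y hs hyo hye hsr
      exact ⟨⟨e, heo, hee⟩, key l hl hlβ r e hr heo hee hrl.symm⟩
  by_cases hq : r = q
  · obtain ⟨e, heo, hee⟩ := hboth.2
    exact ⟨l, e, Or.inr rfl, fun e' => hrl (hq.trans e'.symm), heo, hee⟩
  · obtain ⟨e, heo, hee⟩ := hboth.1
    exact ⟨r, e, Or.inl rfl, hq, heo, hee⟩

theorem Split.eq_cen {p : ℕ} {x z : G} (hx : (cen x).index = a) (hp : p.Prime) (hpβ : p ∣ β)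
    [Fact p.Prime] {P : Sylow p G} (hP : (P : Subgroup G) ≤ cen x) (hzP : z ∈ (P : Subgroup G))
    (hzo : orderOf z = p) (hPz : (P : Subgroup G) ≤ cen z) : cen z = cen x := by
  obtain ⟨q, e, hq, hne, heo, hee⟩ := h.exists_rep hb hr hl hrl hrβ hlβ hx p
  have hqp : q.Prime := by rcases hq with rfl | rfl <;> assumption
  exact (h.eq_cen_aux hb hqp heo (by rw [hee, hx]) hp hpβ hne.symm (hee.symm ▸ hP) hzP hzo hPz).trans hee

/-- All `a`-centralisers are conjugate. -/
theorem Split.exists_conj {x x' : G} (hx : (cen x).index = a) (hx' : (cen x').index = a) :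
    ∃ g : G, cen x' = cen (g * x * g⁻¹) := by
  have := Fact.mk hr
  have hrc := hrβ.trans (h.ratio_dvd hb)
  have hra : ¬ r ∣ a := fun hd => hr.ne_one (Nat.eq_one_of_dvd_coprimes h.cop hd hrc)
  obtain ⟨P, -, hP⟩ := GroupBasics.exists_sylow_le (Q := ⊥) (hx.symm ▸ hra) IsPGroup.of_bot bot_le
  obtain ⟨P', -, hP'⟩ :=
    GroupBasics.exists_sylow_le (Q := ⊥) (hx'.symm ▸ hra) IsPGroup.of_bot bot_le
  obtain ⟨z, hzP, hzo, hPz⟩ := exists_central_mem P (hrc.trans (h.card_eq ▸ dvd_mul_left c a))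
  obtain ⟨g, hg⟩ := MulAction.exists_smul_eq G P P'
  refine ⟨g, ?_⟩
  have hmem : ∀ y : G, y ∈ (P' : Subgroup G) ↔ g⁻¹ * y * g ∈ (P : Subgroup G) := by
    intro y
    rw [← hg, Sylow.coe_subgroup_smul, mem_pointwise_smul_iff_inv_smul_mem]
    simp [MulAut.smul_def]
  have h1 : cen (g * z * g⁻¹) = cen x' := by
    refine h.eq_cen hb hr hl hrl hrβ hlβ hx' hr hrβ hP' ((hmem _).2 (by simpa [mul_assoc] using hzP))
      (by rw [show g * z * g⁻¹ = MulAut.conj g z from rfl, MulEquiv.orderOf_eq, hzo]) fun y hy => ?_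
    rw [cen, ThreeClassSizes.conj_cent]
    exact ⟨g⁻¹ * y * g, hPz ((hmem y).1 hy), by simp [mul_assoc]⟩
  rw [← h1, cen, cen, ThreeClassSizes.conj_cent, ThreeClassSizes.conj_cent]
  show (cen z).map _ = (cen x).map _
  rw [h.eq_cen hb hr hl hrl hrβ hlβ hx hr hrβ hP hzP hzo hPz]

include hns

/-- A central element of prime order of a Sylow subgroup, for a prime of `c`, has class size `a`. -/
theorem Split.index_eq_a {p : ℕ} [Fact p.Prime] (hpc : p ∣ c) {P : Sylow p G} {z : G}
    (hzP : z ∈ (P : Subgroup G)) (hzo : orderOf z = p) (hPz : (P : Subgroup G) ≤ cen z) :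
    (cen z).index = a := by
  have hp : p.Prime := Fact.out
  by_cases hpβ : p ∣ β
  · exact h.index_eq_a_of_ratio hb hp hpβ hzo fun hd => P.not_dvd_index (hd.trans (index_dvd_of_le hPz))
  obtain ⟨x₀, hx₀⟩ := h.exA
  obtain ⟨q, e, hq, hql, heo, hee⟩ := h.exists_rep hb hr hl hrl hrβ hlβ hx₀ l
  obtain rfl : q = r := hq.resolve_right hql
  have hea : (cen e).index = a := by rw [hee, hx₀]
  obtain ⟨P', -, hP'⟩ := GroupBasics.exists_sylow_le (p := p) (Q := ⊥) (H := cen e)
    (hea.symm ▸ fun hd => hp.ne_one (Nat.eq_one_of_dvd_coprimes h.cop hd hpc)) IsPGroup.of_bot bot_le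
  obtain ⟨g, hg⟩ := MulAction.exists_smul_eq G P' P
  set x := g * e * g⁻¹
  have hx : (cen x).index = a := (index_cen_conj g e).trans hea
  have hxo : orderOf x = q := by
    rw [show x = MulAut.conj g e from rfl, MulEquiv.orderOf_eq, heo]
  have hzx : z ∈ cen x := by
    rw [cen, ThreeClassSizes.conj_cent]
    rw [← hg, Sylow.coe_subgroup_smul, mem_pointwise_smul_iff_inv_smul_mem] at hzP
    exact ⟨g⁻¹ * z * g, hP' (by simpa [MulAut.smul_def] using hzP), by simp [mul_assoc]⟩
  obtain ⟨u, huc, hun⟩ : ∃ u : cen x, (orderOf u).Coprime q ∧ u ∉ center (cen x) := by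
    by_contra hall
    push Not at hall
    exact hns (h.isSolvable_of_nilpotent_cen hx (isNilpotent_of_regular_central hr hall))
  obtain ⟨s, y, hs, hy, hyn, hyz⟩ := ThreeClassSizes.exists_primary hun
  have hyc : (orderOf y).Coprime q := huc.coprime_dvd_left (orderOf_dvd_of_mem_zpowers hyz)
  have hsr : s ≠ q := by
    rintro rfl
    obtain ⟨k, hk⟩ := hy
    exact hyn (orderOf_eq_one_iff.1 (Nat.eq_one_of_dvd_coprimes (hyc.pow_right k) dvd_rfl
      (orderOf_dvd_of_pow_eq_one hk)) ▸ one_mem _)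
  have hT := h.twoSizes hr hxo hx hb y.2 (by rwa [Subgroup.orderOf_coe])
    fun e' => hyn ((mem_center_sub y).2 e')
  obtain ⟨h1, h2, -⟩ := two_structure hT hs hsr hy hyn
  have hls : l = s := (h1 l hl hlβ).resolve_left hrl.symm
  subst hls
  have hzc := h2 ⟨l, hl, hlβ, hrl.symm⟩ p ⟨z, hzx⟩ hp (fun e' => hpβ (e' ▸ hrβ))
    (fun e' => hpβ (e' ▸ hlβ)) (PE_of_orderOf (by rw [Subgroup.orderOf_mk, hzo]))
  rw [h.eq_of_le hx ((mem_center_sub _).1 hzc) (ne_one_of_orderOf hp hzo), hx]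

/-- A normal abelian subgroup forces solvability. -/
theorem Split.false_of_normal_abelian (h2a : ¬ 2 ∣ a) {V : Subgroup G} [hVn : V.Normal]
    (hVc : IsMulCommutative V) (hV : V ≠ ⊥) : False := by
  classical
  have hcomm : ∀ p ∈ V, ∀ q ∈ V, Commute p q := fun p hp q hq =>
    congrArg Subtype.val (hVc.is_comm.comm ⟨p, hp⟩ ⟨q, hq⟩)
  obtain ⟨u, hu, hu1⟩ := V.bot_or_exists_ne_one.resolve_left hV
  obtain ⟨p, hp, hd⟩ := Nat.exists_prime_and_dvd fun e => hu1 (orderOf_eq_one_iff.1 e)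
  obtain ⟨v, hvz, hvo⟩ := exists_order_prime hp hd
  have hvV : v ∈ V := zpowers_le.2 hu hvz
  have hpG : p ∣ Nat.card G := hvo ▸ orderOf_dvd_natCard v
  obtain ⟨x₀, hx₀⟩ := h.exA
  rcases h.prime_dvd_cases hp hpG with hpa | hpc
  · -- the prime divides `a`
    have hv := h.index_eq_c (ne_one_of_orderOf hp hvo) hp (hvo ▸ dvd_rfl) hpa
    set B := cen v
    have h2c : 2 ∣ c := (h.prime_dvd_cases Nat.prime_two (even_of_not_solvable hns)).resolve_left h2a
    have := Fact.mk Nat.prime_two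
    obtain ⟨j, hj⟩ := exists_prime_orderOf_dvd_card' (G := G) 2 (even_of_not_solvable hns)
    have hnc : ∀ k ∈ B, Commute j k → k = 1 := by
      intro k hk hjk
      by_contra hk1
      obtain ⟨t, ht, htk⟩ := Nat.exists_prime_and_dvd fun e => hk1 (orderOf_eq_one_iff.1 e)
      have hta : t ∣ a := htk.trans (by
        rw [← h.card_cen_c hv, ← Subgroup.orderOf_mk k hk]; exact orderOf_dvd_natCard _)
      refine h2a (h.card_cen_c (h.index_eq_c hk1 ht htk hta) ▸ hj ▸ ?_)
      rw [← Subgroup.orderOf_mk j (mem_cent.2 hjk)]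
      exact orderOf_dvd_natCard _
    have hjj : j * j = 1 := by rw [← sq, ← hj, pow_orderOf_eq_one]
    have hji : j⁻¹ = j := inv_eq_of_mul_eq_one_right hjj
    have hVB : V ≤ B := fun k hk => mem_cent.2 (hcomm k hk v hvV)
    have hinv := (inverts_of_involution hj (H := V)
      (fun k hk => by simpa [hji] using hVn.conj_mem k hk j) fun k hk => hnc k (hVB hk)).1
    -- `j` normalises the centraliser
    have hnorm : ∀ g ∈ B, j * g * j ∈ B := by
      intro g hg
      have h1 : (g * j * g⁻¹) * j ∈ B := by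
        refine mem_cent.2 ?_
        have h3 := hinv v hvV
        set v' := g⁻¹ * v⁻¹ * g with hv'
        have hgv : g⁻¹ * v * g = v := by
          rw [mul_assoc, ← (mem_cent.1 hg).eq, inv_mul_cancel_left]
        have hgv' : g * v⁻¹ * g⁻¹ = v⁻¹ := by
          rw [((mem_cent.1 hg).inv_right).eq, mul_inv_cancel_right]
        have h4 : g * j * g⁻¹ * j * v * (g * j * g⁻¹ * j)⁻¹ = v := by
          calc g * j * g⁻¹ * j * v * (g * j * g⁻¹ * j)⁻¹
              = g * j * (g⁻¹ * (j * v * j) * g) * j⁻¹ * g⁻¹ := by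
                rw [show (g * j * g⁻¹ * j)⁻¹ = j * g * j⁻¹ * g⁻¹ by
                  rw [mul_inv_rev, mul_inv_rev, mul_inv_rev, inv_inv, hji]; group]
                group
            _ = g * j * (g⁻¹ * v⁻¹ * g) * j⁻¹ * g⁻¹ := by rw [h3]
            _ = g * (j * v⁻¹ * j) * g⁻¹ := by
                rw [show g⁻¹ * v⁻¹ * g = v⁻¹ by
                  rw [mul_assoc, ← ((mem_cent.1 hg).inv_right).eq, inv_mul_cancel_left], hji]
                group
            _ = g * v * g⁻¹ := by rw [hinv v⁻¹ (inv_mem hvV), inv_inv]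
            _ = v := by rw [(mem_cent.1 hg).eq, mul_inv_cancel_right]
        exact mul_inv_eq_iff_eq_mul.1 h4
      have h5 : j * g⁻¹ * j ∈ B := by
        simpa [mul_assoc] using mul_mem (inv_mem hg) h1
      have h6 := inv_mem h5
      simpa [mul_assoc, hji] using h6
    have hBc := (inverts_of_involution hj (H := B) hnorm hnc).2
    have hBn : B.Normal := by
      refine normalizer_eq_top_iff.1 (eq_top_iff.2 fun g _ => ?_)
      refine ThreeClassSizes.mem_normalizer_of_cent_eq ?_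
      have hgv : (cen (g * v * g⁻¹)).index = c := (index_cen_conj g v).trans hv
      refine (eq_of_le_of_index_eq ?_ (hv.trans hgv.symm)).symm
      intro k hk
      exact mem_cent.2 (congrArg Subtype.val
        (hBc.is_comm.comm ⟨k, hk⟩ ⟨g * v * g⁻¹, hVB (hVn.conj_mem v hvV g)⟩))
    have := h.isNilpotent_cen_c hv
    exact hns (isSolvable_of_normal_factor (N := B) inferInstance (h.isSolvable_cen_a hx₀)
      (h.factor hx₀ hv).symm)
  -- the prime divides `c`
  have := Fact.mk hp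
  let W : Subgroup G :=
    { carrier := {k | k ∈ V ∧ k ^ p = 1}
      one_mem' := ⟨one_mem V, one_pow p⟩
      mul_mem' := fun {s t} hs ht => ⟨mul_mem hs.1 ht.1, by
        rw [(hcomm s hs.1 t ht.1).mul_pow, hs.2, ht.2, one_mul]⟩
      inv_mem' := fun {s} hs => ⟨inv_mem hs.1, by rw [inv_pow, hs.2, inv_one]⟩ }
  have hWn : W.Normal := ⟨fun s hs g => ⟨hVn.conj_mem s hs.1 g, by
    rw [conj_pow, hs.2, mul_one, mul_inv_cancel]⟩⟩
  have hWp : IsPGroup p W := fun s => ⟨1, Subtype.ext (by rw [pow_one]; exact s.2.2)⟩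
  obtain ⟨P⟩ : Nonempty (Sylow p G) := inferInstance
  have hWP : W ≤ P := (Solvable.le_pCore hWp).trans (Solvable.pCore_le_sylow P)
  have hvW : v ∈ W := ⟨hvV, hvo ▸ pow_orderOf_eq_one v⟩
  have hWb : W.subgroupOf (P : Subgroup G) ≠ ⊥ := fun e => by
    have h1 : (⟨v, hWP hvW⟩ : (P : Subgroup G)) ∈ W.subgroupOf (P : Subgroup G) := hvW
    rw [e, mem_bot] at h1
    exact ne_one_of_orderOf hp hvo (congrArg Subtype.val h1)
  have := P.isPGroup'.isNilpotent
  obtain ⟨⟨z, hzP⟩, hz, hz1⟩ :=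
    (Subgroup.bot_or_exists_ne_one _).resolve_left (Solvable.inf_center_ne_bot hWb)
  obtain ⟨hzW, hzZ⟩ := mem_inf.1 hz
  have hzo : orderOf z = p := orderOf_eq_prime (mem_subgroupOf.1 hzW).2
    fun e => hz1 (Subtype.ext e)
  have hPz : (P : Subgroup G) ≤ cen z := fun k hk =>
    mem_cent.2 (congrArg Subtype.val (mem_center_iff.1 hzZ ⟨k, hk⟩))
  have hza := h.index_eq_a hb hr hl hrl hrβ hlβ hns hpc hzP hzo hPz
  have hzV : z ∈ V := (mem_subgroupOf.1 hzW).1
  -- the kernel of the action on the conjugates of `z`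
  set N := centralizer (Group.conjugatesOfSet ({z} : Set G)) with hN
  have hmemN : ∀ k : G, k ∈ N ↔ ∀ g : G, k ∈ cen (g * z * g⁻¹) := by
    intro k
    rw [hN, mem_centralizer_iff]
    constructor
    · intro hk g
      exact mem_cent.2 (hk _ (Group.mem_conjugatesOfSet_iff.2
        ⟨z, rfl, isConj_iff.2 ⟨g, rfl⟩⟩)).symm
    · intro hk s hs
      obtain ⟨z', hz', hzs⟩ := Group.mem_conjugatesOfSet_iff.1 hs
      rw [Set.mem_singleton_iff] at hz'
      subst hz'
      obtain ⟨g, rfl⟩ := isConj_iff.1 hzs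
      exact (mem_cent.1 (hk g)).eq.symm
  have hNn : N.Normal := ⟨fun k hk g => (hmemN _).2 fun d => by
    have h1 := (hmemN k).1 hk (g⁻¹ * d)
    rw [mem_cent] at h1 ⊢
    have h2 := h1.map (MulAut.conj g).toMonoidHom
    simpa [mul_assoc] using h2⟩
  have hconj : ∀ x : G, (cen x).index = a → ∃ g : G, cen x = cen (g * z * g⁻¹) :=
    fun x hx => h.exists_conj hb hr hl hrl hrβ hlβ hza hx
  have hNle : ∀ x : G, (cen x).index = a → N ≤ cen x := fun x hx k hk => by
    obtain ⟨g, hg⟩ := hconj x hx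
    exact hg ▸ (hmemN k).1 hk g
  have hxN : ∀ x : G, (cen x).index = a → x ∈ N := by
    intro x hx
    refine (hmemN x).2 fun d => mem_cent.2 ?_
    obtain ⟨g, hg⟩ := hconj x hx
    have h1 : d * z * d⁻¹ ∈ cen (g * z * g⁻¹) :=
      mem_cent.2 (hcomm _ (hVn.conj_mem z hzV d) _ (hVn.conj_mem z hzV g))
    rw [← hg] at h1
    exact (mem_cent.1 h1).symm
  have hTI : ∀ x₁ x₂ : G, (cen x₁).index = a → (cen x₂).index = a → cen x₁ ≠ cen x₂ →
      cen x₁ ⊓ cen x₂ ≤ N := by
    intro x₁ x₂ hx₁ hx₂ hne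
    refine ThreeClassSizes.le_of_forall_pe fun q hq k hk hke => by_contra fun hkN => ?_
    have hk1 : k ≠ 1 := fun e => hkN (e ▸ one_mem N)
    have hkb : (cen k).index = b := by
      rcases h.dich k hk1 with e | e | e
      · exact absurd (hxN k e) hkN
      · exact e
      · exact absurd (mem_cent.1 (mem_inf.1 hk).1).symm (fun hh => h.not_commute hx₁ e hh)
    have hkle : ∀ x : G, (cen x).index = a → k ∈ cen x → cen k ≤ cen x := by
      intro x hx hkx
      obtain ⟨p', e, hp', hne', heo, hee⟩ := h.exists_rep hb hr hl hrl hrβ hlβ hx q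
      have hp'p : p'.Prime := by rcases hp' with rfl | rfl <;> assumption
      rw [← hee] at hkx ⊢
      have he := cen_mul_eq (mem_cent.1 hkx) (hke.coprime' (PE_of_orderOf heo) hq hp'p hne'.symm)
      have hd : b ∣ (cen (k * e)).index := hkb ▸ index_dvd_of_le (he ▸ inf_le_left)
      have hd' : a ∣ (cen (k * e)).index := by
        have : (cen e).index = a := by rw [hee, hx]
        exact this ▸ index_dvd_of_le (he ▸ inf_le_right)
      have hne1 : k * e ≠ 1 := h.ne_one (lt_of_lt_of_le h.one_lt_a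
        (Nat.le_of_dvd (Nat.pos_of_ne_zero index_ne_zero_of_finite) hd'))
      rcases h.dich _ hne1 with e' | e' | e'
      · exact absurd (e' ▸ hd) h.not_b_a
      · have := eq_of_le_of_index_eq (he ▸ inf_le_left : cen (k * e) ≤ cen k) (e'.trans hkb.symm)
        exact inf_eq_left.1 (he ▸ this)
      · exact absurd (e' ▸ hd) h.not_b_c
    have hle : cen k ≤ cen x₁ ⊓ cen x₂ :=
      le_inf (hkle x₁ hx₁ (mem_inf.1 hk).1) (hkle x₂ hx₂ (mem_inf.1 hk).2)
    obtain ⟨p₁, e₁, hp₁, -, he₁o, he₁⟩ := h.exists_rep hb hr hl hrl hrβ hlβ hx₁ q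
    obtain ⟨p₂, e₂, hp₂, hp₂ne, he₂o, he₂⟩ := h.exists_rep hb hr hl hrl hrβ hlβ hx₂ p₁
    have hp₁p : p₁.Prime := by rcases hp₁ with rfl | rfl <;> assumption
    have hp₂p : p₂.Prime := by rcases hp₂ with rfl | rfl <;> assumption
    have hea₁ : (cen e₁).index = a := by rw [he₁, hx₁]
    have hea₂ : (cen e₂).index = a := by rw [he₂, hx₂]
    have hcm : Commute e₁ e₂ := (mem_cent.1 (hNle e₁ hea₁ (hxN e₂ hea₂))).symm
    have he := cen_mul_eq hcm (coprime_of_ne hp₁p hp₂p hp₂ne.symm he₁o he₂o)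
    rw [← he₁, ← he₂] at hle
    rw [← he] at hle
    have hd : a ∣ (cen (e₁ * e₂)).index := hea₁ ▸ index_dvd_of_le (he ▸ inf_le_left)
    have hne1 : e₁ * e₂ ≠ 1 := h.ne_one (lt_of_lt_of_le h.one_lt_a
      (Nat.le_of_dvd (Nat.pos_of_ne_zero index_ne_zero_of_finite) hd))
    have heq : cen k = cen (e₁ * e₂) := by
      rcases h.dich _ hne1 with e' | e' | e'
      · exfalso
        have h1 := eq_of_le_of_index_eq (he ▸ inf_le_left : cen (e₁ * e₂) ≤ cen e₁) (e'.trans hea₁.symm)
        have h2 : cen e₁ ≤ cen e₂ := inf_eq_left.1 (he ▸ h1)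
        have h3 := eq_of_le_of_index_eq h2 (hea₁.trans hea₂.symm)
        exact hne (by rw [← he₁, ← he₂, h3])
      · exact eq_of_le_of_index_eq hle (hkb.trans e'.symm)
      · exact absurd (e' ▸ hd) h.not_a_c
    refine hkN ((hmemN k).2 fun d => mem_cent.2 ?_)
    have hdz : (cen (d * z * d⁻¹)).index = a := (index_cen_conj d z).trans hza
    have h1 : d * z * d⁻¹ ∈ cen k := by
      rw [heq, he, mem_inf]
      exact ⟨hNle e₁ hea₁ (hxN _ hdz), hNle e₂ hea₂ (hxN _ hdz)⟩
    exact (mem_cent.1 h1).symm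
  -- counting
  obtain ⟨w, hw⟩ := h.exC
  set A := cen z with hA
  set B := cen w with hB
  have hNA : N ≤ A := hNle z hza
  have hBN : B ⊓ N = ⊥ := eq_bot_iff.2 ((inf_le_inf_left B hNA).trans
    (le_of_eq ((inf_comm B A).trans (h.inf_eq_bot hza hw))))
  set S : Set G := {g | g ∈ N ∨ ∀ x : G, (cen x).index = a → g ∉ cen x}
  have hcompl : Nat.card B * Nat.card {y : G // y ∈ A ∧ y ∉ N} ≤ Nat.card (Sᶜ : Set G) := by
    rw [← Nat.card_prod]
    refine Nat.card_le_card_of_injective (fun ky => ⟨(ky.1 : G) * ky.2.1 * (ky.1 : G)⁻¹, ?_⟩) ?_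
    · rintro (h1 | h1)
      · exact ky.2.2.2 (by simpa [mul_assoc] using hNn.conj_mem _ h1 (ky.1 : G)⁻¹)
      · refine h1 _ ((index_cen_conj (ky.1 : G) z).trans hza) ?_
        rw [cen, ThreeClassSizes.conj_cent]
        exact ⟨ky.2.1, ky.2.2.1, rfl⟩
    · rintro ⟨⟨k, hk⟩, y, hyA, hyN⟩ ⟨⟨k', hk'⟩, y', hyA', hyN'⟩ e
      have e' : k * y * k⁻¹ = k' * y' * k'⁻¹ := congrArg Subtype.val e
      have hkk : k = k' := by
        refine h.conj_injective hns hza hw hk hk' (by_contra fun hne => hyN ?_)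
        have h1 : k * y * k⁻¹ ∈ cen (k * z * k⁻¹) := by
          rw [cen, ThreeClassSizes.conj_cent]; exact ⟨y, hyA, rfl⟩
        have h2 : k * y * k⁻¹ ∈ cen (k' * z * k'⁻¹) := by
          rw [e', cen, ThreeClassSizes.conj_cent]; exact ⟨y', hyA', rfl⟩
        have h3 := hTI _ _ ((index_cen_conj k z).trans hza) ((index_cen_conj k' z).trans hza) hne
          (mem_inf.2 ⟨h1, h2⟩)
        simpa [mul_assoc] using hNn.conj_mem _ h3 k⁻¹
      subst hkk
      have : y = y' := mul_left_cancel (mul_right_cancel e')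
      subst this
      rfl
  have hdiff : Nat.card {y : G // y ∈ A ∧ y ∉ N} + Nat.card N = Nat.card A := by
    have h1 : Nat.card {y : G // y ∈ A ∧ y ∉ N} = Set.ncard ((A : Set G) \ (N : Set G)) := rfl
    rw [h1]
    exact Set.ncard_sdiff_add_ncard_of_subset (fun k hk => hNA hk)
  have hScard : Nat.card S ≤ Nat.card B * Nat.card N := by
    have h1 : Nat.card S + Nat.card (Sᶜ : Set G) = Nat.card G := by
      rw [Nat.card_coe_set_eq, Nat.card_coe_set_eq, Set.ncard_add_ncard_compl]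
    rw [h.card_eq, ← h.card_cen_c hw, ← h.card_cen_a hza, ← hdiff, Nat.mul_add] at h1
    simp only [← hB] at h1
    omega
  set M := B ⊔ N with hM
  have hMset : (M : Set G) = (B : Set G) * (N : Set G) := mul_normal B N
  have hMS : (M : Set G) ⊆ S := by
    rw [hMset]
    rintro g ⟨k, hk, n, hn, rfl⟩
    by_contra hcon
    simp only [S, Set.mem_ofPred_eq, not_or, not_forall, not_not] at hcon
    obtain ⟨hgN, x, hx, hgx⟩ := hcon
    have hkx : k ∈ cen x := by simpa using mul_mem hgx (inv_mem (hNle x hx hn))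
    have hk1 : k ∈ cen x ⊓ cen w := ⟨hkx, hk⟩
    rw [h.inf_eq_bot hx hw, mem_bot] at hk1
    exact hgN (by subst hk1; simpa using hn)
  have hMcard : Nat.card M = Nat.card B * Nat.card N := by
    have h1 := Factorizations.card_mul_eq B N
    rw [← hMset, hBN, card_bot, mul_one] at h1
    exact h1
  have hMeq : (M : Set G) = S := Set.eq_of_subset_of_ncard_le hMS (by
    rw [← Nat.card_coe_set_eq, ← Nat.card_coe_set_eq]
    exact hScard.trans hMcard.ge)
  have hMn : M.Normal := by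
    refine ⟨fun k hk g => ?_⟩
    have hk' : k ∈ S := hMeq ▸ hk
    show g * k * g⁻¹ ∈ (M : Set G)
    rw [hMeq]
    rcases hk' with h1 | h1
    · exact Or.inl (hNn.conj_mem k h1 g)
    · refine Or.inr fun x hx hgx => h1 (g⁻¹ * x * g⁻¹⁻¹) ((index_cen_conj g⁻¹ x).trans hx) ?_
      rw [cen, ThreeClassSizes.conj_cent]
      exact ⟨g * k * g⁻¹, hgx, by simp [mul_assoc]⟩
  have hNs : Group.IsSolvable N := by
    have := h.isSolvable_cen_a hza
    exact Group.isSolvable_of_isSolvable_injective (f := inclusion hNA) (inclusion_injective hNA)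
  have hBs : Group.IsSolvable B := by
    have := h.isNilpotent_cen_c hw
    infer_instance
  have hMs : Group.IsSolvable M := by
    have : (N.subgroupOf M).Normal := hNn.subgroupOf M
    refine isSolvable_of_normal_factor (N := N.subgroupOf M) (H := B.subgroupOf M) ?_ ?_ fun g => ?_
    · exact Group.isSolvable_of_isSolvable_injective (f := (subgroupOfEquivOfLe (le_sup_right : N ≤ M)).toMonoidHom)
        (subgroupOfEquivOfLe (le_sup_right : N ≤ M)).injective
    · exact Group.isSolvable_of_isSolvable_injective (f := (subgroupOfEquivOfLe (le_sup_left : B ≤ M)).toMonoidHom)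
        (subgroupOfEquivOfLe (le_sup_left : B ≤ M)).injective
    · have hg : (g : G) ∈ ((N ⊔ B : Subgroup G) : Set G) := by rw [sup_comm]; exact g.2
      rw [normal_mul] at hg
      obtain ⟨n, hn, k, hk, e⟩ := hg
      exact ⟨⟨n, (le_sup_right : N ≤ M) hn⟩, hn, ⟨k, (le_sup_left : B ≤ M) hk⟩, hk, Subtype.ext e.symm⟩
  refine hns (isSolvable_of_normal_factor hMs (h.isSolvable_cen_a hza) fun g => ?_)
  obtain ⟨k, hk, y, hy, rfl⟩ := (h.factor hza hw).symm g
  exact ⟨k, mem_sup_left hk, y, hy, rfl⟩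

/-- Without normal abelian subgroups the permutation character gives an isolated involution. -/
theorem Split.false_of_no_abelian (h2a : ¬ 2 ∣ a)
    (hna : ∀ V : Subgroup G, V.Normal → IsMulCommutative V → V = ⊥) : False := by
  classical
  have hne : ∃ n : ℕ, ∃ T : Subgroup G, T.Normal ∧ T ≠ ⊥ ∧ Nat.card T = n :=
    ⟨_, ⊤, inferInstance, fun e => hns (by
      have : Subsingleton G := by
        exact Subgroup.subsingleton_iff.1 (subsingleton_of_bot_eq_top e.symm)
      exact Group.isSolvable_of_comm fun p q => Subsingleton.elim _ _), rfl⟩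
  obtain ⟨T, hTn, hT1, hTc⟩ := Nat.find_spec hne
  have hmin : ∀ N : Subgroup G, N.Normal → N ≤ T → N = ⊥ ∨ N = T := fun N hN hle =>
    or_iff_not_imp_left.2 fun hN1 => eq_of_le_of_card_ge hle
      (hTc.le.trans (Nat.find_min' hne ⟨N, hN, hN1, rfl⟩))
  have hTcom : ¬ IsMulCommutative T := fun hh => hT1 (hna T hTn hh)
  have h2T : 2 ∣ Nat.card T := by
    refine even_of_not_solvable fun hs => hT1 ?_
    exact eq_bot_of_solvable hna T
  have := Fact.mk Nat.prime_two
  obtain ⟨P⟩ : Nonempty (Sylow 2 G) := inferInstance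
  obtain ⟨ST, hST⟩ := ThreeClassSizes.exists_sylow_inf P T
  have hTP : (T.subgroupOf (P : Subgroup G)) ≠ ⊥ := by
    intro e
    refine ST.ne_bot_of_dvd_card h2T ((map_eq_bot_iff_of_injective _ T.subtype_injective).1 ?_)
    rw [hST, eq_bot_iff]
    intro k hk
    have h1 : (⟨k, (mem_inf.1 hk).1⟩ : (P : Subgroup G)) ∈ T.subgroupOf (P : Subgroup G) := (mem_inf.1 hk).2
    rw [e, mem_bot] at h1
    exact mem_bot.2 (congrArg Subtype.val h1)
  have := P.isPGroup'.isNilpotent
  obtain ⟨⟨u, huP⟩, hu, hu1⟩ :=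
    (Subgroup.bot_or_exists_ne_one _).resolve_left (Solvable.inf_center_ne_bot hTP)
  obtain ⟨huT, huZ⟩ := mem_inf.1 hu
  have hu1' : u ≠ 1 := fun e => hu1 (Subtype.ext e)
  have h2u : 2 ∣ orderOf u := by
    obtain ⟨k, hk⟩ := P.isPGroup' ⟨u, huP⟩
    obtain ⟨j, -, hj⟩ := (Nat.dvd_prime_pow Nat.prime_two).1
      (orderOf_dvd_of_pow_eq_one (congrArg Subtype.val hk) : orderOf u ∣ 2 ^ k)
    rcases Nat.eq_zero_or_pos j with rfl | hj0
    · exact absurd (orderOf_eq_one_iff.1 hj) hu1'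
    · rw [hj]; exact dvd_pow_self 2 hj0.ne'
  obtain ⟨z, hzu, hzo⟩ := exists_order_prime Nat.prime_two h2u
  have hzP : z ∈ (P : Subgroup G) := zpowers_le.2 huP hzu
  have hzT : z ∈ T := zpowers_le.2 (mem_subgroupOf.1 huT) hzu
  have hPz : (P : Subgroup G) ≤ cen z := fun k hk => ThreeClassSizes.cent_le_of_mem_zpowers hzu
    (mem_cent.2 (congrArg Subtype.val (mem_center_iff.1 huZ ⟨k, hk⟩)))
  have h2c : 2 ∣ c := (h.prime_dvd_cases Nat.prime_two (even_of_not_solvable hns)).resolve_left h2a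
  have hza := h.index_eq_a hb hr hl hrl hrβ hlβ hns h2c hzP hzo hPz
  have hz1 : z ≠ 1 := ne_one_of_orderOf Nat.prime_two hzo
  -- `a` is not a prime power
  have hapow : ∀ (s k : ℕ), s.Prime → a ≠ s ^ k := by
    intro s k hs e
    have : Group.IsSolvable (normalClosure ({z} : Set G)) := Cfsg.Agent.S4037.result z hs k
      (by rw [GroupBasics.card_carrier_eq_index_centralizer]; exact hza.trans e)
    have h1 : z ∈ normalClosure ({z} : Set G) := subset_normalClosure rfl
    rw [eq_bot_of_solvable hna (normalClosure ({z} : Set G))] at h1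
    exact hz1 (mem_bot.1 h1)
  obtain ⟨w₀, hw₀⟩ := h.exC
  obtain ⟨s, w, hs, hwo, -, hwe⟩ := h.symm.exists_prime_rep hw₀
  have hw : (cen w).index = c := by rw [hwe, hw₀]
  have hBc : IsMulCommutative (cen w) := by
    refine (h.cen_c_cases hw hs hwo).resolve_left fun hp => ?_
    have := Fact.mk hs
    obtain ⟨k, hk⟩ := hp.exists_card_eq
    exact hapow s k hs ((h.card_cen_c hw).symm.trans hk)
  have := Fintype.ofFinite G
  have hd : CCData (cen z) (cen w) := by
    refine ⟨hBc, fun k hk hk1 => ?_, ?_, ?_⟩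
    · obtain ⟨t, ht, htk⟩ := Nat.exists_prime_and_dvd fun e => hk1 (orderOf_eq_one_iff.1 e)
      have hta : t ∣ a := htk.trans (by
        rw [← h.card_cen_c hw, ← Subgroup.orderOf_mk k hk]; exact orderOf_dvd_natCard _)
      refine (eq_of_le_of_index_eq (fun y hy => ?_)
        (hw.trans (h.index_eq_c hk1 ht htk hta).symm)).symm
      exact mem_cent.2 (congrArg Subtype.val (hBc.is_comm.comm ⟨y, hy⟩ ⟨k, hk⟩))
    · rw [h.card_cen_a hza, h.card_cen_c hw]; exact h.cop.symm
    · rw [h.card_cen_a hza, h.card_cen_c hw, h.card_eq, mul_comm]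
  have hcount := hd.card_fixed_eq hmin hTcom hzT hz1 (hza.trans (h.card_cen_c hw).symm)
  -- each orbit of `T` contains exactly one fixed coset
  let f : MulAction.fixedBy (G ⧸ cen z) z → MulAction.orbitRel.Quotient T (G ⧸ cen z) :=
    fun q => Quotient.mk'' q.1
  have hsur : Function.Surjective f := by
    intro o
    induction o using Quotient.inductionOn' with
    | h q =>
      obtain ⟨g, rfl⟩ := QuotientGroup.mk_surjective q
      have hy : g⁻¹ * z * g ∈ T := by simpa using hTn.conj_mem z hzT g⁻¹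
      have hyp : IsPGroup 2 (zpowers (⟨g⁻¹ * z * g, hy⟩ : T)) := by
        rintro ⟨k, hk⟩
        obtain ⟨n, rfl⟩ := mem_zpowers_iff.1 hk
        refine ⟨1, Subtype.ext (Subtype.ext ?_)⟩
        show ((g⁻¹ * z * g) ^ n) ^ 2 ^ 1 = 1
        rw [← zpow_natCast, ← zpow_mul, mul_comm, zpow_mul, zpow_natCast, pow_one,
          show (g⁻¹ * z * g) ^ 2 = g⁻¹ * z ^ 2 * g by
            simpa using conj_pow (a := g⁻¹) (b := z) (i := 2),
          show z ^ 2 = 1 by rw [← hzo, pow_orderOf_eq_one]]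
        simp
      obtain ⟨S', hS'⟩ := hyp.exists_le_sylow
      obtain ⟨t, ht⟩ := MulAction.exists_smul_eq T S' ST
      have hty : (t : G) * (g⁻¹ * z * g) * (t : G)⁻¹ ∈ cen z := by
        refine hPz ?_
        have h1 : t * ⟨g⁻¹ * z * g, hy⟩ * t⁻¹ ∈ (ST : Subgroup T) := by
          rw [← ht, Sylow.coe_subgroup_smul, mem_pointwise_smul_iff_inv_smul_mem]
          simpa [MulAut.smul_def, mul_assoc] using hS' (mem_zpowers _)
        have h2 := mem_map_of_mem T.subtype h1
        rw [hST] at h2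
        exact (mem_inf.1 h2).1
      refine ⟨⟨((g * (t : G)⁻¹ : G) : G ⧸ cen z), ?_⟩, ?_⟩
      · rw [MulAction.mem_fixedBy, MulAction.Quotient.smul_coe, QuotientGroup.eq, smul_eq_mul]
        simpa [mul_assoc] using inv_mem hty
      · apply Quotient.sound
        refine ⟨⟨g * (t : G)⁻¹ * g⁻¹, hTn.conj_mem _ (inv_mem t.2) g⟩, ?_⟩
        show (((g * (t : G)⁻¹ * g⁻¹) * g : G) : G ⧸ cen z) = ((g * (t : G)⁻¹ : G) : G ⧸ cen z)
        rw [inv_mul_cancel_right]
  have hinj : Function.Injective f := (hsur.bijective_of_nat_card_le (le_of_eq hcount)).1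
  -- `z` is isolated in `T`
  have hiso : ∀ t : T, t * ⟨z, hzT⟩ * t⁻¹ ∈ ST → t * ⟨z, hzT⟩ * t⁻¹ = ⟨z, hzT⟩ := by
    intro t ht
    have h2 := mem_map_of_mem T.subtype ht
    rw [hST] at h2
    have hty : (t : G) * z * (t : G)⁻¹ ∈ cen z := hPz (mem_inf.1 h2).1
    have hfix₀ : ((1 : G) : G ⧸ cen z) ∈ MulAction.fixedBy (G ⧸ cen z) z := by
      rw [MulAction.mem_fixedBy, MulAction.Quotient.smul_coe, QuotientGroup.eq, smul_eq_mul]
      simpa using inv_mem (self_mem_cen z)
    have hfix₁ : (((t : G)⁻¹ : G) : G ⧸ cen z) ∈ MulAction.fixedBy (G ⧸ cen z) z := by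
      rw [MulAction.mem_fixedBy, MulAction.Quotient.smul_coe, QuotientGroup.eq, smul_eq_mul]
      simpa [mul_assoc] using inv_mem hty
    have he : f ⟨_, hfix₁⟩ = f ⟨_, hfix₀⟩ := Quotient.sound
      ⟨t⁻¹, by show (((t : G)⁻¹ * 1 : G) : G ⧸ cen z) = _; rw [mul_one]⟩
    have h3 := congrArg Subtype.val (hinj he)
    rw [QuotientGroup.eq, inv_inv, mul_one] at h3
    apply Subtype.ext
    show (t : G) * z * (t : G)⁻¹ = z
    rw [(mem_cent.1 h3).eq, mul_inv_cancel_right]
  obtain ⟨N, hN, hNodd, hNc⟩ := Cfsg.Agent.S0215.result ST (⟨z, hzT⟩ : T)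
    (by rw [Subgroup.orderOf_mk, hzo]) (by
      have h1 : z ∈ (ST : Subgroup T).map T.subtype := hST ▸ mem_inf.2 ⟨hzP, hzT⟩
      obtain ⟨k, hk, e⟩ := h1
      have : k = ⟨z, hzT⟩ := Subtype.ext e
      exact this ▸ hk) hiso
  have hTna : ∀ V : Subgroup T, V.Characteristic → IsMulCommutative V → V = ⊥ := by
    intro V hVch hVc
    have : IsMulCommutative (V.map T.subtype) :=
      ⟨⟨fun ⟨_, p, hp, rfl⟩ ⟨_, q, hq, rfl⟩ => Subtype.ext
        (show (p : G) * q = q * p from
          congrArg (fun k : V => ((k : T) : G)) (hVc.is_comm.comm ⟨p, hp⟩ ⟨q, hq⟩))⟩⟩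
    exact (map_eq_bot_iff_of_injective _ T.subtype_injective).1 (hna _ inferInstance this)
  -- the normal odd subgroup is trivial
  have hNs : Group.IsSolvable N := Cfsg.Agent.S0205.result hNodd
  have hN1 : N = ⊥ := by
    by_contra hne'
    have : Nontrivial N := (nontrivial_iff_ne_bot N).2 hne'
    have hF := Solvable.fittingSubgroup_ne_bot (G := N)
    have : (Cfsg.fittingSubgroup N).Characteristic := Solvable.fittingSubgroup_characteristic
    have : Group.IsNilpotent (Cfsg.fittingSubgroup N) := Solvable.fittingSubgroup_isNilpotent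
    have : Group.IsNilpotent ((Cfsg.fittingSubgroup N).map N.subtype) := Group.nilpotent_of_mulEquiv
      ((Cfsg.fittingSubgroup N).equivMapOfInjective _ N.subtype_injective)
    have hle := Solvable.le_fittingSubgroup (N := (Cfsg.fittingSubgroup N).map N.subtype) this
    have hFT : Cfsg.fittingSubgroup T ≠ ⊥ := ne_bot_of_le_ne_bot
      (fun e => hF ((map_eq_bot_iff_of_injective _ N.subtype_injective).1 e)) hle
    have : (Cfsg.fittingSubgroup T).Characteristic := Solvable.fittingSubgroup_characteristic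
    have : Group.IsNilpotent (Cfsg.fittingSubgroup T) := Solvable.fittingSubgroup_isNilpotent
    have : Group.IsNilpotent ((Cfsg.fittingSubgroup T).map T.subtype) := Group.nilpotent_of_mulEquiv
      ((Cfsg.fittingSubgroup T).equivMapOfInjective _ T.subtype_injective)
    exact hFT ((map_eq_bot_iff_of_injective _ T.subtype_injective).1
      (eq_bot_of_solvable hna ((Cfsg.fittingSubgroup T).map T.subtype)))
  have hzc : (⟨z, hzT⟩ : T) ∈ center T := mem_center_iff.2 fun g => by
    have h1 := hNc g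
    rw [hN1, mem_bot, mul_inv_eq_one, mul_inv_eq_iff_eq_mul] at h1
    exact h1.symm
  rw [hTna (center T) inferInstance inferInstance, mem_bot] at hzc
  exact hz1 (congrArg Subtype.val hzc)

end TwoPrimes

end Ratio

/-- The configuration with `a` odd is solvable. -/
theorem Split.isSolvable_of_odd (h2a : ¬ 2 ∣ a) : Group.IsSolvable G := by
  by_contra hns
  obtain ⟨β, hb⟩ := h.dvd
  by_cases hone : ∀ d e : ℕ, d.Prime → e.Prime → d ∣ β → e ∣ β → d = e
  · by_cases hβ1 : β = 1
    · exact h.b_ne.1 (by rw [hb, hβ1, mul_one])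
    obtain ⟨p₀, hp₀, hp₀β⟩ := Nat.exists_prime_and_dvd hβ1
    exact hns (h.isSolvable_of_one_prime hb p₀ hp₀ fun d hd hdβ => hone d p₀ hd hp₀ hdβ hp₀β)
  push Not at hone
  obtain ⟨r, l, hr, hl, hrβ, hlβ, hrl⟩ := hone
  by_cases hna : ∀ V : Subgroup G, V.Normal → IsMulCommutative V → V = ⊥
  · exact h.false_of_no_abelian hb hr hl hrl hrβ hlβ hns h2a hna
  · push Not at hna
    obtain ⟨V, hVn, hVc, hV⟩ := hna
    exact h.false_of_normal_abelian hb hr hl hrl hrβ hlβ hns h2a hVc hV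

end CfsgLib.ConjRankThree
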