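import Cfsg.Agent.ConjRankThree.Even
import Cfsg.Agent.CAGroups.Simple
import Cfsg.Agent.S4355

/-!
Centerless groups with at most three class sizes other than `1`.
-/

set_option autoImplicit false
set_option linter.unusedSectionVars false

namespace CfsgLib.ConjRankThree

open Subgroup CfsgLib.TwoRegularSizes
open scoped Pointwise

universe u

variable {G : Type u} [Group G] [Finite G]

theorem one_lt_index (hZ : center G = ⊥) {x : G} (hx : x ≠ 1) : 1 < (cen x).index := by
  refine Nat.one_lt_iff_ne_zero_and_ne_one.2 ⟨index_ne_zero_of_finite, fun e => hx ?_⟩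
  rw [index_eq_one] at e
  refine mem_bot.1 (hZ ▸ mem_center_iff.2 fun g => ?_)
  exact (mem_cent.1 (show g ∈ cen x from e ▸ mem_top g)).eq

theorem PE_two_power {u : G} (hu : u ≠ 1) (h : ∃ k : ℕ, orderOf u = 2 ^ k) : 2 ∣ orderOf u := by
  obtain ⟨k, hk⟩ := h
  rcases Nat.eq_zero_or_pos k with rfl | hk0
  · exact absurd (orderOf_eq_one_iff.1 hk) hu
  · rw [hk]; exact dvd_pow_self 2 hk0.ne'

theorem isMulCommutative_of_le {H K : Subgroup G} (hle : H ≤ K) (hK : IsMulCommutative K) :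
    IsMulCommutative H :=
  ⟨⟨fun p q => Subtype.ext
    (congrArg (fun k : K => (k : G)) (hK.is_comm.comm ⟨p, hle p.2⟩ ⟨q, hle q.2⟩))⟩⟩

/-- The recognition step. -/
theorem conclude (hZ : center G = ⊥) (hns : ¬ Group.IsSolvable G)
    (hab : ∀ t : G, orderOf t = 2 → IsMulCommutative (cen t)) :
    ∃ f : ℕ, 0 < f ∧
      Nonempty (G ≃* Matrix.ProjectiveSpecialLinearGroup (Fin 2) (GaloisField 2 f)) := by
  have : Fact (Nat.Prime 2) := ⟨Nat.prime_two⟩
  have h2 := even_of_not_solvable hns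
  rcases Cfsg.Agent.S2202.result (even_iff_two_dvd.2 h2) hab with
    hcyc | hnorm | ⟨F, iF, iFt, A, iA, iAf, hchar, -, ⟨e⟩⟩
  · exfalso
    apply hns
    obtain ⟨P⟩ : Nonempty (Sylow 2 G) := inferInstance
    have hP : Nat.minFac (Nat.card G) = 2 := (Nat.minFac_eq_two_iff _).2 h2
    have hcompl := IsCyclic.isComplement' hP (hcyc P)
    set K := (MonoidHom.transferSylow P ((hcyc P).normalizer_le_centralizer hP)).ker
    have hodd : Odd (Nat.card K) := by
      rw [← hcompl.index_eq_card]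
      exact Nat.odd_iff.2 (Nat.two_dvd_ne_zero.1 P.not_dvd_index)
    refine isSolvable_of_normal_factor (N := K) (H := (P : Subgroup G))
      (Cfsg.Agent.S0205.result hodd) ?_ fun g => ?_
    · have := P.isPGroup'.isNilpotent
      infer_instance
    · obtain ⟨⟨⟨k, hk⟩, ⟨p, hp⟩⟩, hkp⟩ := hcompl.2 g
      exact ⟨k, hk, p, hp, hkp.symm⟩
  · exfalso
    apply hns
    obtain ⟨P⟩ : Nonempty (Sylow 2 G) := inferInstance
    have := hnorm P
    have := P.isPGroup'.isNilpotent
    have : Group.IsSolvable (G ⧸ (P : Subgroup G)) := Cfsg.Agent.S0205.result (by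
      rw [← Subgroup.index_eq_card]
      exact Nat.odd_iff.2 (Nat.two_dvd_ne_zero.1 P.not_dvd_index))
    exact (Group.isSolvable_iff_subgroup_quotient (P : Subgroup G)).2 ⟨inferInstance, inferInstance⟩
  · have hA : ∀ p : A, p = 1 := fun p => by
      have hc : e.symm (1, p) ∈ center G := mem_center_iff.2 fun g => by
        apply e.injective
        simp [Prod.ext_iff, mul_comm]
      rw [hZ, mem_bot] at hc
      exact congrArg Prod.snd (e.symm.injective (hc.trans (map_one e.symm).symm))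
    have : Subsingleton A := ⟨fun p q => (hA p).trans (hA q).symm⟩
    have : Unique A := uniqueOfSubsingleton 1
    let e' : G ≃* Matrix.SpecialLinearGroup (Fin 2) F := e.trans MulEquiv.prodUnique
    obtain ⟨⟨f, hf0⟩, -, hf⟩ := FiniteField.card F 2
    simp only [PNat.mk_coe] at hf
    have := Fintype.ofFinite (GaloisField 2 f)
    refine ⟨f, hf0, ⟨(e'.trans CfsgLib.CAGroups.sl2EquivPSL2).trans
      (CfsgLib.Linear.pslFieldCongr ?_)⟩⟩
    rw [hf, ← Nat.card_eq_fintype_card, GaloisField.card 2 f (by omega)]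

/-- Without proper containments between centralisers, involution centralisers are abelian. -/
theorem isMulCommutative_cen_involution
    (hF : ∀ x y : G, x ≠ 1 → y ≠ 1 → cen y ≤ cen x → cen y = cen x) (t : G) (ht : orderOf t = 2) :
    IsMulCommutative (cen t) := by
  have : Fact (Nat.Prime 2) := ⟨Nat.prime_two⟩
  have hdi : ∀ i : G, orderOf i = 2 → IsPGroup 2 (cen i) ∨ IsMulCommutative (cen i) := by
    intro i hi
    have hi1 := ne_one_of_orderOf Nat.prime_two hi
    by_cases hp : ∀ d : ℕ, d.Prime → d ∣ Nat.card (cen i) → d = 2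
    · obtain ⟨k, hk⟩ := exists_eq_pow Nat.card_pos.ne' hp
      exact Or.inl (IsPGroup.of_card hk)
    push Not at hp
    obtain ⟨d, hd, hdd, hd2⟩ := hp
    have := Fact.mk hd
    obtain ⟨⟨v, hv⟩, hvo⟩ := exists_prime_orderOf_dvd_card' d hdd
    rw [Subgroup.orderOf_mk] at hvo
    have key : ∀ y z : G, y ≠ 1 → z ∈ cen y → (orderOf y).Coprime (orderOf z) → cen y ≤ cen z := by
      intro y z hy hz hco
      have hcm : Commute y z := (mem_cent.1 hz).symm
      have he := cen_mul_eq hcm hco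
      have hne : y * z ≠ 1 := fun e => hy (orderOf_eq_one_iff.1 (by
        have := hcm.orderOf_mul_eq_mul_orderOf_of_coprime hco
        rw [e, orderOf_one] at this
        exact Nat.eq_one_of_mul_eq_one_right this.symm))
      exact inf_eq_left.1 (he ▸ hF y (y * z) hy hne (he ▸ inf_le_left))
    have hiv := key i v hi1 hv (by rw [hi, hvo]; exact (Nat.coprime_primes Nat.prime_two hd).2 hd2.symm)
    have hve : cen i = cen v := hF v i (ne_one_of_orderOf hd hvo) hi1 hiv
    suffices hc : ∀ p ∈ cen i, ∀ q ∈ cen i, Commute p q from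
      Or.inr ⟨⟨fun p q => Subtype.ext (hc p p.2 q q.2).eq⟩⟩
    refine ThreeClassSizes.commute_of_forall_pe fun e he y hy hye => ?_
    by_cases he2 : e = 2
    · rw [hve]
      exact key v y (ne_one_of_orderOf hd hvo) (hve ▸ hy)
        (by rw [hvo]; exact (hye.coprime ((Nat.coprime_primes he hd).2 (he2 ▸ hd2.symm))).symm)
    · exact key i y hi1 hy
        (by rw [hi]; exact (hye.coprime ((Nat.coprime_primes he Nat.prime_two).2 he2)).symm)
  refine (hdi t ht).elim (fun h2 => ?_) id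
  by_contra hnab
  obtain ⟨T, hT⟩ := h2.exists_le_sylow
  have hSab : ∀ S : Sylow 2 G, ¬ IsMulCommutative (S : Subgroup G) := by
    intro S hS
    obtain ⟨g, hg⟩ := MulAction.exists_smul_eq G S T
    refine hnab (isMulCommutative_of_le hT ⟨⟨fun p q => ?_⟩⟩)
    have hmem : ∀ y : (T : Subgroup G), g⁻¹ * (y : G) * g ∈ (S : Subgroup G) := fun y => by
      have h1 : (y : G) ∈ ((g • S : Sylow 2 G) : Subgroup G) := hg.symm ▸ y.2
      rw [Sylow.coe_subgroup_smul, mem_pointwise_smul_iff_inv_smul_mem] at h1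
      simpa [MulAut.smul_def] using h1
    have h1 : g⁻¹ * (p : G) * g * (g⁻¹ * q * g) = g⁻¹ * q * g * (g⁻¹ * p * g) :=
      congrArg Subtype.val (hS.is_comm.comm ⟨_, hmem p⟩ ⟨_, hmem q⟩)
    exact Subtype.ext (mul_left_cancel (a := g⁻¹) (mul_right_cancel (b := g)
      (by simpa [mul_assoc] using h1)))
  have hG2 : 2 ∣ Nat.card G := ht ▸ orderOf_dvd_natCard t
  -- every involution centraliser is a Sylow 2-subgroup
  have hodd : ∀ i : G, orderOf i = 2 → ¬ 2 ∣ (cen i).index := by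
    have h2all : ∀ i : G, orderOf i = 2 → IsPGroup 2 (cen i) := by
      intro i hi
      refine (hdi i hi).elim id fun hab => ?_
      obtain ⟨S, hS⟩ := (IsPGroup.of_card (n := 1)
        (by rw [Nat.card_zpowers, hi, pow_one]) : IsPGroup 2 (zpowers i)).exists_le_sylow
      obtain ⟨z, hzS, hzo, hSz⟩ := exists_central_mem S hG2
      have hz2 : IsPGroup 2 (cen z) :=
        (hdi z hzo).elim id fun hh => absurd (isMulCommutative_of_le hSz hh) (hSab S)
      refine hz2.to_le fun k hk => ?_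
      have hzi : z ∈ cen i := mem_cent.2 (mem_cent.1 (hSz (hS (mem_zpowers i)))).symm
      exact mem_cent.2 (congrArg Subtype.val (hab.is_comm.comm ⟨k, hk⟩ ⟨z, hzi⟩))
    intro i hi
    obtain ⟨S, hS⟩ := (h2all i hi).exists_le_sylow
    obtain ⟨z, hzS, hzo, hSz⟩ := exists_central_mem S hG2
    have he := hF z i (ne_one_of_orderOf Nat.prime_two hzo) (ne_one_of_orderOf Nat.prime_two hi)
      (hS.trans hSz)
    rw [he]
    exact fun hd => S.not_dvd_index (hd.trans (index_dvd_of_le hSz))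
  refine hnab (isMulCommutative_of_le hT (Cfsg.Agent.S4355.result (fun u hu => ?_) T))
  by_cases hu1 : u = 1
  · subst hu1
    rw [show centralizer ({1} : Set G) = ⊤ from eq_top_iff.2 fun g _ =>
      mem_cent.2 (Commute.one_right g), index_top]
    norm_num
  · obtain ⟨i, hiu, hi⟩ := exists_order_prime Nat.prime_two (PE_two_power hu1 hu)
    have he := hF i u (ne_one_of_orderOf Nat.prime_two hi) hu1
      (ThreeClassSizes.cent_le_of_mem_zpowers hiu)
    show ¬ 2 ∣ (cen u).index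
    rw [he]
    exact hodd i hi

/-- A proper containment between two centralisers gives the sizes `a`, `b`, `c`. -/
theorem exists_sizes (hZ : center G = ⊥)
    (h : Nat.card {n : ℕ | 1 < n ∧ ∃ x : G, (cen x).index = n} ≤ 3) {x₀ y₀ : G} (hx₀ : x₀ ≠ 1)
    (hy₀ : y₀ ≠ 1) (hle : cen y₀ ≤ cen x₀) (hne : cen y₀ ≠ cen x₀) :
    ∃ a b c : ℕ, Sizes G a b c ∧ a ∣ b ∧
      ∃ x y : G, (cen x).index = a ∧ (cen y).index = b ∧ cen y ≤ cen x := by
  set V := {n : ℕ | 1 < n ∧ ∃ x : G, (cen x).index = n}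
  set a := (cen x₀).index
  set b := (cen y₀).index
  have ha : 1 < a := one_lt_index hZ hx₀
  have hb : 1 < b := one_lt_index hZ hy₀
  have hab : a ∣ b := index_dvd_of_le hle
  have hne' : a ≠ b := fun e => hne (eq_of_le_of_index_eq hle e.symm)
  have hcen : ∀ p : ℕ, p.Prime → p ∣ a → ∃ z : G, z ≠ 1 ∧ ¬ p ∣ (cen z).index := by
    intro p hp hpa
    obtain ⟨z, hzo, hz⟩ := exists_central_sylow (G := G) hp (hpa.trans (index_dvd_card (cen x₀)))
    exact ⟨z, ne_one_of_orderOf hp hzo, hz⟩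
  obtain ⟨p, hp, hpa⟩ := Nat.exists_prime_and_dvd (n := a) ha.ne'
  obtain ⟨z, hz, hpz⟩ := hcen p hp hpa
  set c := (cen z).index
  have hca : c ≠ a := fun e => hpz (e ▸ hpa)
  have hcb : c ≠ b := fun e => hpz (e ▸ hpa.trans hab)
  have hVfin : V.Finite := (Set.finite_range fun x : G => (cen x).index).subset
    fun n ⟨_, x, hx⟩ => ⟨x, hx⟩
  have hsub : ({a, b, c} : Set ℕ) ⊆ V := by
    rintro n (rfl | rfl | rfl)
    exacts [⟨ha, x₀, rfl⟩, ⟨hb, y₀, rfl⟩, ⟨one_lt_index hZ hz, z, rfl⟩]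
  have h3 : ({a, b, c} : Set ℕ).ncard = 3 :=
    Set.ncard_eq_three.2 ⟨a, b, c, hne', hca.symm, hcb.symm, rfl⟩
  have hV : ({a, b, c} : Set ℕ) = V := Set.eq_of_subset_of_ncard_le hsub
    (by rw [h3, ← Nat.card_coe_set_eq]; exact h) hVfin
  have hdich : ∀ x : G, x ≠ 1 → (cen x).index = a ∨ (cen x).index = b ∨ (cen x).index = c := by
    intro x hx
    have : (cen x).index ∈ ({a, b, c} : Set ℕ) := hV ▸ ⟨one_lt_index hZ hx, x, rfl⟩
    simpa using this
  have hcop : a.Coprime c := Nat.coprime_of_dvd fun q hq hqa hqc => by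
    obtain ⟨w, hw, hqw⟩ := hcen q hq hqa
    rcases hdich w hw with e | e | e <;> rw [e] at hqw
    exacts [hqw hqa, hqw (hqa.trans hab), hqw hqc]
  refine ⟨a, b, c, ⟨hZ, hdich, ha, one_lt_index hZ hz, hcop, fun hd => hne' ?_, fun hd => ?_,
    ⟨x₀, rfl⟩, ⟨z, rfl⟩⟩, hab, x₀, y₀, rfl, rfl, hle⟩
  · exact Nat.dvd_antisymm hab hd
  · exact ha.ne' (Nat.eq_one_of_dvd_coprimes hcop dvd_rfl (hab.trans hd))

theorem main (hZ : center G = ⊥)
    (h : Nat.card {n : ℕ | 1 < n ∧ ∃ x : G, (cen x).index = n} ≤ 3) :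
    Group.IsSolvable G ∨ ∃ a : ℕ, 0 < a ∧
      Nonempty (G ≃* Matrix.ProjectiveSpecialLinearGroup (Fin 2) (GaloisField 2 a)) := by
  by_cases hns : Group.IsSolvable G
  · exact Or.inl hns
  refine Or.inr (conclude hZ hns ?_)
  by_cases hF : ∀ x y : G, x ≠ 1 → y ≠ 1 → cen y ≤ cen x → cen y = cen x
  · exact isMulCommutative_cen_involution hF
  push Not at hF
  obtain ⟨x₀, y₀, hx₀, hy₀, hle, hne⟩ := hF
  obtain ⟨a, b, c, hS, hab, hnest⟩ := exists_sizes hZ h hx₀ hy₀ hle hne
  have hsp := hS.split_of_not_solvable hns hab hnest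
  have h2a : 2 ∣ a := by_contra fun h2 => hns (hsp.isSolvable_of_odd h2)
  have : Fact (Nat.Prime 2) := ⟨Nat.prime_two⟩
  have h2c : ¬ 2 ∣ c := fun hd =>
    absurd (Nat.eq_one_of_dvd_coprimes hsp.cop h2a hd) (by norm_num)
  have hsyl : ∀ P : Sylow 2 G, IsMulCommutative (P : Subgroup G) := by
    refine Cfsg.Agent.S4355.result fun u hu => ?_
    by_cases hu1 : u = 1
    · subst hu1
      rw [show centralizer ({1} : Set G) = ⊤ from eq_top_iff.2 fun g _ =>
        mem_cent.2 (Commute.one_right g), index_top]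
      norm_num
    · show ¬ 2 ∣ (cen u).index
      rwa [hsp.index_eq_c hu1 Nat.prime_two (PE_two_power hu1 hu) h2a]
  intro t ht
  have hw := hsp.index_eq_c (ne_one_of_orderOf Nat.prime_two ht) Nat.prime_two (ht ▸ dvd_rfl) h2a
  refine (hsp.cen_c_cases hw Nat.prime_two ht).elim (fun hp => ?_) id
  obtain ⟨P, hP⟩ := hp.exists_le_sylow
  exact isMulCommutative_of_le hP (hsyl P)

end CfsgLib.ConjRankThree
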