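import Cfsg.Agent.ConjRankThree.Basic

/-!
Two indices inside the centraliser of an element of prime order and class size `a`.
-/

set_option autoImplicit false
set_option linter.unusedSectionVars false

namespace CfsgLib.ConjRankThree

open Subgroup CfsgLib.TwoRegularSizes

theorem exists_eq_pow {r n : ℕ} (hn : n ≠ 0) (h : ∀ d : ℕ, d.Prime → d ∣ n → d = r) :
    ∃ k : ℕ, n = r ^ k :=
  ⟨_, Nat.eq_prime_pow_of_unique_prime_dvd hn (fun {d} hd hdn => h d hd hdn)⟩

section General

variable {L : Type*} [Group L] [Finite L] {r m : ℕ}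

/-- If the elements of order prime to `r` are central, the group is nilpotent. -/
theorem isNilpotent_of_regular_central (hr : r.Prime)
    (h : ∀ y : L, (orderOf y).Coprime r → y ∈ center L) : Group.IsNilpotent L := by
  have := Fact.mk hr
  have hp : IsPGroup r (L ⧸ center L) := by
    intro q
    obtain ⟨g, rfl⟩ := QuotientGroup.mk_surjective q
    obtain ⟨k, n, hn, he⟩ :=
      Nat.exists_eq_pow_mul_and_not_dvd (orderOf_pos g).ne' r hr.ne_one
    refine ⟨k, ?_⟩
    rw [← QuotientGroup.mk_pow, QuotientGroup.eq_one_iff]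
    refine h _ ?_
    rw [orderOf_pow_of_dvd (pow_ne_zero k hr.ne_zero) (he ▸ Dvd.intro n rfl), he,
      Nat.mul_div_cancel_left _ (pow_pos hr.pos k)]
    exact ((hr.coprime_iff_not_dvd).2 hn).symm
  have := hp.isNilpotent
  exact Subgroup.isNilpotent_of_ker_le_center (QuotientGroup.mk' (center L))
    (QuotientGroup.ker_mk' _).le

/-- A nilpotent subgroup of `r`-power index makes the group solvable. -/
theorem isSolvable_of_index_pow (hr : r.Prime) (H : Subgroup L) [Group.IsNilpotent H] {k : ℕ}
    (hk : H.index = r ^ k) : Group.IsSolvable L := by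
  have := Fact.mk hr
  obtain ⟨R⟩ : Nonempty (Sylow r L) := inferInstance
  have := R.isPGroup'.isNilpotent
  exact Factorizations.isSolvable_of_nilpotent (ThreeClassSizes.factors_of_coprime_index
    (A := H) (B := (R : Subgroup L))
    (hk ▸ (hr.coprime_iff_not_dvd.2 R.not_dvd_index).pow_left k))

theorem exists_noncentral {w : L} (hm : (centralizer ({w} : Set L)).index = m) {d : ℕ}
    (hdm : d ∣ m) {T : Subgroup L} (hT : IsPGroup d T) (hi : ¬ d ∣ T.index) :
    ∃ y ∈ T, PE d y ∧ y ∉ center L := by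
  by_contra hall
  push Not at hall
  refine hi ((hm ▸ hdm).trans (index_dvd_of_le fun y hy => ?_))
  exact center_le_cent _ (hall y hy (PE.of_isPGroup hT hy))

/-- The structure forced by a non-central element of `s`-power order. -/
theorem two_structure (hT : TwoSizes L r m) {s : ℕ} {w : L} (hs : s.Prime) (hsr : s ≠ r)
    (hw : PE s w) (hwn : w ∉ center L) :
    (∀ d : ℕ, d.Prime → d ∣ m → d = r ∨ d = s) ∧
    ((∃ d : ℕ, d.Prime ∧ d ∣ m ∧ d ≠ r) → ∀ (d : ℕ) (y : L), d.Prime → d ≠ r → d ≠ s → PE d y →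
      y ∈ center L) ∧
    ∃ H : Subgroup L, Group.IsNilpotent H ∧ ∃ k : ℕ, H.index = r ^ k := by
  have hwm := hT.index_eq (hT.reg hs hsr hw) hwn
  rcases structure_thm hT with ⟨H, hH, -, e, he⟩ |
    ⟨q, _, P, Q, A, hqr, hA, hcard, -, -, htop⟩
  · have hmr : ∀ d : ℕ, d.Prime → d ∣ m → d = r := by
      intro d hd hdm
      by_contra hdr
      have := Fact.mk hd
      obtain ⟨S⟩ : Nonempty (Sylow d H) := inferInstance
      have hdi : ¬ d ∣ ((S : Subgroup H).map H.subtype).index := by
        rw [index_map_subtype]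
        intro hdd
        rcases hd.dvd_mul.1 hdd with h' | h'
        · exact S.not_dvd_index h'
        · rw [he] at h'
          exact hdr ((Nat.prime_dvd_prime_iff_eq hd hT.prime).1 (hd.dvd_of_dvd_pow h'))
      obtain ⟨y, hy, hye, hyn⟩ := exists_noncentral hwm hdm (S.isPGroup'.map _) hdi
      have hyH : y ∈ H := map_subtype_le _ hy
      have h2 : (centralizer ({y} : Set L)).index ∣ H.index := index_dvd_of_le fun k hk =>
        mem_cent.2 (congrArg Subtype.val (mul_comm' (⟨k, hk⟩ : H) ⟨y, hyH⟩))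
      rw [hT.index_eq (hT.reg hd hdr hye) hyn, he] at h2
      exact hdr ((Nat.prime_dvd_prime_iff_eq hd hT.prime).1 (hd.dvd_of_dvd_pow (hdm.trans h2)))
    refine ⟨fun d hd hdm => Or.inl (hmr d hd hdm), fun ⟨d, hd, hdm, hdr⟩ => absurd (hmr d hd hdm) hdr,
      H, ?_, e, he⟩
    let _ : CommGroup H := { (inferInstance : Group H) with mul_comm := fun u v => mul_comm' u v }
    exact inferInstance
  have hq : q.Prime := Fact.out
  have hAn : A.Normal := ⟨fun u hu g => by
    rwa [mem_center_iff.1 (hA hu) g, mul_inv_cancel_right]⟩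
  have hoff : ∀ (d : ℕ) (y : L), d.Prime → d ≠ r → d ≠ q → PE d y → y ∈ center L := by
    intro d y hd hdr hdq hy
    refine hA (mem_of_pow_mem (n := A.index) ?_ (A.pow_index_mem y))
    refine hy.coprime (hd.coprime_iff_not_dvd.2 fun hdi => ?_)
    rw [← relIndex_top_right, ← htop, relIndex_sup_right] at hdi
    have h3 := hdi.trans (relIndex_dvd_card _ _)
    have := Fact.mk hT.prime
    rw [hcard, P.card_eq_multiplicity, Q.card_eq_multiplicity] at h3
    rcases hd.dvd_mul.1 h3 with h' | h'
    · exact hdr ((Nat.prime_dvd_prime_iff_eq hd hT.prime).1 (hd.dvd_of_dvd_pow h'))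
    · exact hdq ((Nat.prime_dvd_prime_iff_eq hd hq).1 (hd.dvd_of_dvd_pow h'))
  have hsq : s = q := by_contra fun hne => hwn (hoff s w hs hsr hne hw)
  subst hsq
  refine ⟨fun d hd hdm => ?_, fun _ => hoff, ?_⟩
  · by_contra hne
    push Not at hne
    have := Fact.mk hd
    obtain ⟨T⟩ : Nonempty (Sylow d L) := inferInstance
    obtain ⟨y, -, hye, hyn⟩ := exists_noncentral hwm hdm T.isPGroup' T.not_dvd_index
    exact hyn (hoff d y hd hne.1 hne.2 hye)
  refine ⟨(Q : Subgroup L) ⊔ center L, ?_, exists_eq_pow index_ne_zero_of_finite fun d hd hdi => ?_⟩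
  · set M := (Q : Subgroup L) ⊔ center L
    let f : M →* L ⧸ center L := (QuotientGroup.mk' (center L)).comp M.subtype
    have hp : IsPGroup s f.range := by
      have : f.range = (Q : Subgroup L).map (QuotientGroup.mk' (center L)) := by
        rw [MonoidHom.range_eq_map, ← Subgroup.map_map, ← MonoidHom.range_eq_map, range_subtype,
          Subgroup.map_sup, QuotientGroup.map_mk'_self, sup_bot_eq]
      rw [this]
      exact Q.isPGroup'.map _
    have := hp.isNilpotent
    refine Subgroup.isNilpotent_of_ker_le_center f.rangeRestrict fun x hx => ?_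
    rw [MonoidHom.ker_rangeRestrict, MonoidHom.mem_ker] at hx
    have hxc : (x : L) ∈ center L := (QuotientGroup.eq_one_iff _).1 hx
    exact mem_center_iff.2 fun y => Subtype.ext (mem_center_iff.1 hxc y)
  · by_contra hne
    have := Fact.mk hd
    by_cases hds : d = s
    · subst hds
      exact Q.not_dvd_index (hdi.trans (index_dvd_of_le le_sup_left))
    obtain ⟨T⟩ : Nonempty (Sylow d L) := inferInstance
    exact T.not_dvd_index (hdi.trans (index_dvd_of_le fun y hy => mem_sup_right
      (hoff d y hd hne hds (PE.of_isPGroup T.isPGroup' hy))))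

end General

variable {G : Type*} [Group G]

theorem mem_center_sub {A : Subgroup G} (y : A) : y ∈ center A ↔ A ≤ cen (y : G) := by
  rw [mem_center_iff]
  exact ⟨fun hy k hk => mem_cent.2 (congrArg Subtype.val (hy ⟨k, hk⟩)),
    fun hy k => Subtype.ext (mem_cent.1 (hy k.2)).eq⟩

variable [Finite G] {a b c β r : ℕ} (h : Sizes G a b c) {x : G} (hr : r.Prime) (hxo : orderOf x = r)
  (hx : (cen x).index = a) (hb : b = a * β)

include h hr hxo hx hb

/-- In `cen x` the index of the centraliser of an element of order prime to `r` is `1` or `β`. -/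
theorem Sizes.dich_sub {u : G} (hu : u ∈ cen x) (hco : (orderOf u).Coprime r) :
    cen x ≤ cen u ∨ ((cen (x * u)).index = b ∧ (cen u).relIndex (cen x) = β) := by
  have hcm : Commute x u := (mem_cent.1 hu).symm
  have hxu : x * u ≠ 1 := fun e => by
    rw [eq_inv_of_mul_eq_one_right e, orderOf_inv, hxo, Nat.coprime_self] at hco
    exact hr.ne_one hco
  have he : cen (x * u) = cen x ⊓ cen u := cen_mul_eq hcm (hxo ▸ hco.symm)
  have hmul : (cen u).relIndex (cen x) * a = (cen (x * u)).index := by
    rw [← inf_relIndex_left, ← he, ← hx, relIndex_mul_index]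
    exact he ▸ inf_le_left
  rcases h.dich _ hxu with e | e | e
  · refine Or.inl ?_
    have := eq_of_le_of_index_eq (he ▸ inf_le_left : cen (x * u) ≤ cen x) (e.trans hx.symm)
    exact inf_eq_left.1 (he ▸ this)
  · refine Or.inr ⟨e, ?_⟩
    rw [e, hb, mul_comm a] at hmul
    exact Nat.eq_of_mul_eq_mul_right (by have := h.one_lt_a; omega) hmul
  · exact absurd ⟨(cen u).relIndex (cen x), by rw [← e, ← hmul, mul_comm]⟩ h.not_a_c

theorem Sizes.twoSizes {u : G} (hu : u ∈ cen x) (hco : (orderOf u).Coprime r)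
    (hn : ¬ cen x ≤ cen u) : TwoSizes (cen x) r β := by
  refine ⟨hr, fun y hy => ?_, ⟨u, hu⟩, by rwa [Subgroup.orderOf_mk], ?_⟩
  · rw [← Subgroup.orderOf_coe] at hy
    rcases h.dich_sub hr hxo hx hb y.2 hy with e | ⟨-, e⟩
    · exact Or.inl ((mem_center_sub y).2 e)
    · exact Or.inr ((PrimePowerClass.index_dvd_subgroup _ y).trans e)
  · exact (PrimePowerClass.index_dvd_subgroup _ _).trans
      ((h.dich_sub hr hxo hx hb hu hco).resolve_left hn).2

/-- `cen x` has a nilpotent subgroup of `r`-power index. -/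
theorem Sizes.exists_nilpotent : ∃ H : Subgroup (cen x), Group.IsNilpotent H ∧
    ∃ k : ℕ, H.index = r ^ k := by
  by_cases hall : ∀ y : cen x, (orderOf y).Coprime r → y ∈ center (cen x)
  · have := isNilpotent_of_regular_central hr hall
    exact ⟨⊤, Group.nilpotent_of_mulEquiv topEquiv.symm, 0, by rw [index_top, pow_zero]⟩
  push Not at hall
  obtain ⟨u, hu, hun⟩ := hall
  obtain ⟨s, y, hs, hy, hyn, hyz⟩ := ThreeClassSizes.exists_primary hun
  have hyc : (orderOf y).Coprime r := hu.coprime_dvd_left (orderOf_dvd_of_mem_zpowers hyz)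
  have hsr : s ≠ r := by
    rintro rfl
    obtain ⟨k, hk⟩ := hy
    have h1 : orderOf y = 1 :=
      Nat.eq_one_of_dvd_coprimes (hyc.pow_right k) dvd_rfl (orderOf_dvd_of_pow_eq_one hk)
    exact hyn (orderOf_eq_one_iff.1 h1 ▸ one_mem _)
  have hT := h.twoSizes hr hxo hx hb y.2 (by rwa [Subgroup.orderOf_coe])
    fun e => hyn ((mem_center_sub y).2 e)
  exact (two_structure hT hs hsr hy hyn).2.2

theorem Sizes.isSolvable_cen : Group.IsSolvable (cen x) := by
  obtain ⟨H, hH, k, hk⟩ := h.exists_nilpotent hr hxo hx hb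
  exact isSolvable_of_index_pow hr H hk

end CfsgLib.ConjRankThree
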